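import Cfsg.Agent.H97.OmegaEight.Nondeg
import Cfsg.Agent.H98.OrthMax.TotSing

/-!
Subspace stabilisers of `Ω₈⁻(q)`.
-/

set_option autoImplicit false

namespace Cfsg.Agent.H97.OmegaEight

open QuadraticMap Module Cfsg.Agent.Orthogonal Cfsg.Agent.H98.OrthMax

section Abstract

variable {F V : Type*} [Field F] [Fintype F] [AddCommGroup V] [Module F V] [FiniteDimensional F V]
  {Q : QuadraticForm F V}

/-- Spaces of dimension at least five contain totally singular planes. -/
theorem hasSingularPlane_of_five {U : Submodule F V} (hU : Nondeg (restr Q U)) (hd : 5 ≤ finrank F U) :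
    HasSingularPlane Q U := by
  obtain ⟨u, hu0, hu⟩ := hU.exists_singular (by omega)
  obtain ⟨f, hf, huf⟩ := hU.exists_partner hu0 hu
  rw [polar_restr] at huf
  rw [restr_apply] at hu hf
  obtain ⟨z, hz, hz0, hzu, hzf, hQz⟩ := exists_mid_singular hU hd u.2 f.2 hu hf huf
  refine ⟨u, u.2, z, hz, hu, hQz, hzu, fun h => hu0 (Subtype.ext h), fun h => hz0 ?_⟩
  obtain ⟨c, rfl⟩ := Submodule.mem_span_singleton.1 h
  rw [polar_smul_right', polar_comm, huf, mul_one] at hzf
  rw [hzf, zero_smul]

omit [Fintype F] in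
/-- Spaces of dimension at most three contain no totally singular plane. -/
theorem no_plane_of_le_three {W : Submodule F V} (hW : Nondeg (restr Q W)) (hd : finrank F W ≤ 3) :
    ∀ a ∈ W, ∀ b ∈ W, Q a = 0 → Q b = 0 → polar Q a b = 0 → a ≠ 0 → b ∈ Submodule.span F {a} := by
  intro a ha b hb hQa hQb hab ha0
  set T := (Submodule.span F {a} ⊔ Submodule.span F {b}).comap W.subtype with hT
  have hTs : TotSing (restr Q W) T := fun x hx => by
    obtain ⟨p, hp, r, hr, hpr⟩ := Submodule.mem_sup.1 hx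
    obtain ⟨c, rfl⟩ := Submodule.mem_span_singleton.1 hp
    obtain ⟨d, rfl⟩ := Submodule.mem_span_singleton.1 hr
    rw [restr_apply, ← W.subtype_apply x, ← hpr, map_add_polar, qmap_smul, qmap_smul, polar_smul_left',
      polar_smul_right', hQa, hQb, hab]
    ring
  have h1 := hTs.two_mul_finrank_le hW
  have h2 := (Submodule.comapSubtypeEquivOfLe (show Submodule.span F {a} ⊔ Submodule.span F {b} ≤ W from
    sup_le (by simpa using ha) (by simpa using hb))).finrank_eq
  rw [← hT] at h2
  have h3 : Submodule.span F {a} = Submodule.span F {a} ⊔ Submodule.span F {b} :=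
    Submodule.eq_of_le_of_finrank_le le_sup_left (by rw [finrank_span_singleton ha0]; omega)
  rw [h3]
  exact Submodule.mem_sup_right (Submodule.mem_span_singleton_self b)

omit [Fintype F] in
/-- A four-space not of plus type contains no totally singular plane. -/
theorem no_plane_of_not_plus {W : Submodule F V} (hd : finrank F W = 4) (hp : ¬ H96.EvenMax.Plus Q W) :
    ∀ a ∈ W, ∀ b ∈ W, Q a = 0 → Q b = 0 → polar Q a b = 0 → a ≠ 0 → b ∈ Submodule.span F {a} := by
  intro a ha b hb hQa hQb hab ha0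
  by_contra hba
  refine hp ⟨Submodule.span F {a} ⊔ Submodule.span F {b}, sup_le (by simpa using ha) (by simpa using hb),
    fun x hx => ?_, ?_⟩
  · obtain ⟨p, hp, r, hr, rfl⟩ := Submodule.mem_sup.1 hx
    obtain ⟨c, rfl⟩ := Submodule.mem_span_singleton.1 hp
    obtain ⟨d, rfl⟩ := Submodule.mem_span_singleton.1 hr
    rw [map_add_polar, qmap_smul, qmap_smul, polar_smul_left', polar_smul_right', hQa, hQb, hab]
    ring
  · have hb0 : b ≠ 0 := fun h => hba (h ▸ Submodule.zero_mem _)
    have h1 := Submodule.finrank_sup_add_finrank_inf_eq (Submodule.span F {a}) (Submodule.span F {b})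
    have h2 : Submodule.span F {a} ⊓ Submodule.span F {b} = ⊥ := (Submodule.eq_bot_iff _).2 fun x hx => by
      obtain ⟨c, rfl⟩ := Submodule.mem_span_singleton.1 hx.2
      by_contra hne
      exact hba ((Submodule.smul_mem_iff _ (fun h => hne (by rw [h, zero_smul]))).1 hx.1)
    rw [h2, finrank_bot, finrank_span_singleton ha0, finrank_span_singleton hb0] at h1
    omega

omit [Fintype F] in
/-- A four-space of plus type contains a totally singular plane. -/
theorem hasSingularPlane_of_plus {U : Submodule F V} (hd : finrank F U = 4) (hp : H96.EvenMax.Plus Q U) :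
    HasSingularPlane Q U := by
  obtain ⟨L, hLU, hL, hLd⟩ := hp
  obtain ⟨e, he, he0⟩ := Submodule.exists_mem_ne_zero_of_ne_bot (p := L) fun h => by
    rw [h, finrank_bot] at hLd; omega
  obtain ⟨f, hf, hfe⟩ : ∃ f ∈ L, f ∉ Submodule.span F {e} := SetLike.not_le_iff_exists.1 fun h => by
    have := (Submodule.finrank_mono h).trans_eq (finrank_span_singleton he0)
    omega
  exact ⟨e, hLU he, f, hLU hf, hL e he, hL f hf, TotSing.polar_eq hL he hf, he0, hfe⟩

end Abstract

variable {F : Type*} [Field F] [Fintype F] {ι : Type} [Fintype ι] [DecidableEq ι] {Q : QuadraticForm F (ι → F)}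

/-- Nondegenerate subspaces of dimension two or three. -/
theorem isMaximalIn_small (hQ : Nondeg Q) (hn : finrank F (ι → F) = 8) {W : Submodule F (ι → F)}
    (hW : Nondeg (restr Q W)) (hd : finrank F W = 2 ∨ finrank F W = 3)
    (hex : finrank F W = 2 → (∃ x ∈ W, x ≠ 0 ∧ Q x = 0) → 4 ≤ Fintype.card F) :
    Cfsg.Geo.IsMaximalIn (Cfsg.Geo.omegaGL ⇑Q) (Cfsg.Geo.subspaceStabilizer W ⊓ Cfsg.Geo.omegaGL ⇑Q) := by
  have hr := hQ.finrank_add_perp W
  exact isMaximalIn_nondeg_plane hQ (by omega) (fun h => by rw [h, finrank_bot] at hd; omega) hW (by omega)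
    (by omega) (hasSingularPlane_of_five (hQ.nondeg_perp hW) (by omega)) (no_plane_of_le_three hW (by omega)) hex

/-- Nondegenerate four-spaces of a minus type eight-space. -/
theorem isMaximalIn_four (hQ : Nondeg Q) (hn : finrank F (ι → F) = 8)
    (hminus : ¬ H96.EvenMax.Plus Q ⊤) {W : Submodule F (ι → F)} (hW : Nondeg (restr Q W))
    (hd : finrank F W = 4) :
    Cfsg.Geo.IsMaximalIn (Cfsg.Geo.omegaGL ⇑Q) (Cfsg.Geo.subspaceStabilizer W ⊓ Cfsg.Geo.omegaGL ⇑Q) := by
  have hr := hQ.finrank_add_perp W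
  have horth : H96.EvenMax.Orth Q W (perp Q W) := fun w hw z hz => hz w hw
  have htop : W ⊔ perp Q W = ⊤ := (hQ.isCompl_perp hW).sup_eq_top
  have hne : ¬ (H96.EvenMax.Plus Q W ↔ H96.EvenMax.Plus Q (perp Q W)) := fun h => by
    obtain ⟨φ, hφ⟩ := H96.EvenMax.iso_of_type hW (hQ.nondeg_perp hW) ⟨2, by omega⟩ (by omega) h
    exact hminus (htop ▸ H96.EvenMax.plus_pair horth hW ⟨2, by omega⟩ φ hφ)
  by_cases hp : H96.EvenMax.Plus Q W
  · rw [← stabilizer_inf_omega_perp hQ W]
    refine isMaximalIn_nondeg_plane hQ (by omega) (fun h => by rw [h, finrank_bot] at hr; omega)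
      (hQ.nondeg_perp hW) (by rw [hQ.perp_perp]; omega) (fun _ => by omega) ?_
      (no_plane_of_not_plus (by omega) fun h => hne (iff_of_true hp h)) (fun h => by omega)
    rw [hQ.perp_perp]
    exact hasSingularPlane_of_plus hd hp
  · refine isMaximalIn_nondeg_plane hQ (by omega) (fun h => by rw [h, finrank_bot] at hd; omega) hW (by omega)
      (fun _ => by omega) ?_ (no_plane_of_not_plus hd hp) (fun h => by omega)
    exact hasSingularPlane_of_plus (by omega) (by_contra fun h => hne (iff_of_false hp h))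

/-- Nondegenerate subspaces of odd dimension. -/
theorem isMaximalIn_odd (hQ : Nondeg Q) (hn : finrank F (ι → F) = 8) {W : Submodule F (ι → F)}
    (hW : Nondeg (restr Q W)) (hodd : Odd (finrank F W)) :
    Cfsg.Geo.IsMaximalIn (Cfsg.Geo.omegaGL ⇑Q) (Cfsg.Geo.subspaceStabilizer W ⊓ Cfsg.Geo.omegaGL ⇑Q) := by
  have hr := hQ.finrank_add_perp W
  obtain ⟨j, hj⟩ := hodd
  have hline : ∀ T : Submodule F (ι → F), Nondeg (restr Q T) → finrank F T = 1 →
      Cfsg.Geo.IsMaximalIn (Cfsg.Geo.omegaGL ⇑Q) (Cfsg.Geo.subspaceStabilizer T ⊓ Cfsg.Geo.omegaGL ⇑Q) := by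
    intro T hT hT1
    obtain ⟨v, hv, hv0⟩ := Submodule.exists_mem_ne_zero_of_ne_bot (p := T) fun h => by
      rw [h, finrank_bot] at hT1; omega
    have hTv : T = Submodule.span F {v} :=
      (Submodule.eq_of_le_of_finrank_le (by simpa using hv) (by rw [finrank_span_singleton hv0, hT1])).symm
    rw [hTv]
    refine isMaximalIn_point hQ (by omega) fun hQv => ?_
    obtain ⟨f, hf, hvf⟩ := hT.exists_partner (u := ⟨v, hv⟩) (fun h => hv0 (congrArg Subtype.val h)) hQv
    have h2 := finrank_hyperbolic_plane (Q := restr Q T) hQv hf hvf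
    have h3 := Submodule.finrank_le (Submodule.span F ({(⟨v, hv⟩ : T), f} : Set T))
    omega
  rcases (show finrank F W = 1 ∨ finrank F W = 3 ∨ finrank F W = 5 ∨ finrank F W = 7 by omega) with h | h | h | h
  · exact hline W hW h
  · exact isMaximalIn_small hQ hn hW (Or.inr h) (fun h' => by omega)
  · rw [← stabilizer_inf_omega_perp hQ W]
    exact isMaximalIn_small hQ hn (hQ.nondeg_perp hW) (Or.inr (by omega)) (fun h' => by omega)
  · rw [← stabilizer_inf_omega_perp hQ W]
    exact hline _ (hQ.nondeg_perp hW) (by omega)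

end Cfsg.Agent.H97.OmegaEight
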