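import Cfsg.Agent.H98.OrthMax.NondegAux
import Cfsg.Agent.H96.EvenMax.Type

/-!
A root element joining a nondegenerate subspace to its orthogonal, for subspaces of small dimension:
the orthogonal contains a totally singular plane and the subspace none.
-/

set_option autoImplicit false

namespace Cfsg.Agent.H97.OmegaEight

open QuadraticMap Module Cfsg.Agent.Orthogonal Cfsg.Agent.H98.OrthMax

variable {F V : Type*} [Field F] [Fintype F] [AddCommGroup V] [Module F V] [FiniteDimensional F V]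
  {Q : QuadraticForm F V}

/-- `X` contains a root element with centre in the orthogonal of `W` leading into `W`. -/
def HasRootOut (Q : QuadraticForm F V) (W : Submodule F V) (X : Subgroup (O Q)) : Prop :=
  ∃ (u b : V) (hu : Q u = 0) (hb : polar Q u b = 0),
    u ∈ perp Q W ∧ u ≠ 0 ∧ b ∈ W ∧ b ≠ 0 ∧ sie u b hu hb ∈ X

/-- `U` contains a totally singular plane. -/
def HasSingularPlane (Q : QuadraticForm F V) (U : Submodule F V) : Prop :=
  ∃ e ∈ U, ∃ f ∈ U, Q e = 0 ∧ Q f = 0 ∧ polar Q e f = 0 ∧ e ≠ 0 ∧ f ∉ Submodule.span F {e}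

omit [Fintype F] [FiniteDimensional F V] in
/-- Every vector has a singular vector orthogonal to it and not a factor of it. -/
theorem HasSingularPlane.exists_perp {U : Submodule F V} (hL : HasSingularPlane Q U) (z : V) (hz0 : z ≠ 0) :
    ∃ s ∈ U, s ≠ 0 ∧ Q s = 0 ∧ polar Q z s = 0 ∧ z ∉ Submodule.span F {s} := by
  obtain ⟨e, he, f, hf, hQe, hQf, hef, he0, hfe⟩ := hL
  have hf0 : f ≠ 0 := fun h => hfe (h ▸ Submodule.zero_mem _)
  have hQsp : ∀ a b : F, Q (a • e + b • f) = 0 := fun a b => by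
    rw [map_add_polar, qmap_smul, qmap_smul, polar_smul_left', polar_smul_right', hQe, hQf, hef]; ring
  have hne : ∀ a b : F, a ≠ 0 ∨ b ≠ 0 → a • e + b • f ≠ 0 := fun a b hab h => by
    rcases eq_or_ne b 0 with rfl | hb
    · rw [zero_smul, add_zero] at h
      exact (hab.resolve_right (· rfl)) ((smul_eq_zero.1 h).resolve_right he0)
    · refine hfe (Submodule.mem_span_singleton.2 ⟨-(a / b), ?_⟩)
      have : b • f = -(a • e) := eq_neg_of_add_eq_zero_right h
      rw [← inv_smul_smul₀ hb f, this, smul_neg, smul_smul, div_eq_inv_mul, neg_smul]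
  by_cases h0 : polar Q z e = 0 ∧ polar Q z f = 0
  · by_cases hze : z ∈ Submodule.span F {e}
    · refine ⟨f, hf, hf0, hQf, h0.2, fun hzf => ?_⟩
      obtain ⟨a, ha⟩ := Submodule.mem_span_singleton.1 hze
      obtain ⟨b, hb⟩ := Submodule.mem_span_singleton.1 hzf
      refine hne a (-b) (Or.inl fun h => hz0 (by rw [← ha, h, zero_smul])) ?_
      rw [ha, neg_smul, hb, add_neg_cancel]
    · exact ⟨e, he, he0, hQe, h0.1, hze⟩
  · have h1 : polar Q z f ≠ 0 ∨ -polar Q z e ≠ 0 := by
      rw [neg_ne_zero]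
      by_contra hc
      push Not at hc
      exact h0 ⟨hc.2, hc.1⟩
    set s := polar Q z f • e + (-polar Q z e) • f with hs
    refine ⟨s, U.add_mem (U.smul_mem _ he) (U.smul_mem _ hf), hne _ _ h1, hQsp _ _,
      by rw [hs, polar_add_right, polar_smul_right', polar_smul_right']; ring, fun hzs => ?_⟩
    obtain ⟨c, hc⟩ := Submodule.mem_span_singleton.1 hzs
    refine h0 ⟨?_, ?_⟩ <;> rw [← hc, hs]
    · simp only [smul_add, smul_smul, polar_add_left, polar_smul_left', polar_self', hQe,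
        polar_comm (⇑Q) f e, hef, mul_zero, add_zero]
    · simp only [smul_add, smul_smul, polar_add_left, polar_smul_left', polar_self', hQf, hef, mul_zero,
        add_zero]

omit [Fintype F] in
/-- A vector outside a subspace of `U` is separated from it inside `U`. -/
theorem exists_sep (hQ : Nondeg Q) {W L : Submodule F V} (hW : Nondeg (restr Q W)) (hL : L ≤ perp Q W)
    {z : V} (hz : z ∈ perp Q W) (hzL : z ∉ L) :
    ∃ x ∈ perp Q W, (∀ l ∈ L, polar Q l x = 0) ∧ polar Q z x ≠ 0 := by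
  by_contra hc
  push Not at hc
  have hmem : z ∈ W ⊔ L := by
    rw [← hQ.perp_perp (W ⊔ L), perp_sup, mem_perp']
    intro x hx
    exact hc x hx.1 hx.2
  obtain ⟨a, ha, l, hl, rfl⟩ := Submodule.mem_sup.1 hmem
  have : a ∈ W ⊓ perp Q W := ⟨ha, by simpa using (perp Q W).sub_mem hz (hL hl)⟩
  rw [(nondeg_restr_iff W).1 hW, Submodule.mem_bot] at this
  exact hzL (by rw [this, zero_add]; exact hl)

omit [Fintype F] in
/-- The singular vectors orthogonal to a nonsingular one span its orthogonal. -/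
theorem exists_singular_not_mem (hQ : Nondeg Q) {W : Submodule F V} (hW : Nondeg (restr Q W))
    (hL : HasSingularPlane Q (perp Q W)) {z : V} (hz : z ∈ perp Q W) (hQz : Q z ≠ 0) (T : Submodule F V)
    {r : V} (hr : r ∈ perp Q W) (hzr : polar Q z r = 0) (hrT : r ∉ T) :
    ∃ s ∈ perp Q W, Q s = 0 ∧ polar Q z s = 0 ∧ s ∉ T := by
  by_contra hc
  push Not at hc
  obtain ⟨a, ha, ha0, hQa, hza, -⟩ := hL.exists_perp z (fun h => hQz (by rw [h, map_zero]))
  obtain ⟨x, hx, hxl, hax⟩ := exists_sep hQ hW (L := Submodule.span F {z})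
    (by simpa using hz) ha (fun h => by
      obtain ⟨c, rfl⟩ := Submodule.mem_span_singleton.1 h
      rw [qmap_smul, mul_eq_zero] at hQa
      exact ha0 (by rw [pow_eq_zero_iff two_ne_zero |>.1 (hQa.resolve_right hQz), zero_smul]))
  have hzx : polar Q z x = 0 := hxl z (Submodule.mem_span_singleton_self z)
  obtain ⟨x', hx'U, hax', hzx'⟩ : ∃ x' ∈ perp Q W, polar Q a x' = 1 ∧ polar Q z x' = 0 :=
    ⟨(polar Q a x)⁻¹ • x, (perp Q W).smul_mem _ hx, by rw [polar_smul_right', inv_mul_cancel₀ hax],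
      by rw [polar_smul_right', hzx, mul_zero]⟩
  set f := x' + (-Q x') • a with hf
  have hfU : f ∈ perp Q W := add_mem hx'U ((perp Q W).smul_mem _ ha)
  have hQf : Q f = 0 := by
    rw [hf, map_add_polar, qmap_smul, polar_smul_right', hQa, polar_comm, hax']; ring
  have hzf : polar Q z f = 0 := by rw [hf, polar_add_right, polar_smul_right', hza, hzx']; ring
  have haf : polar Q a f = 1 := by rw [hf, polar_add_right, polar_smul_right', hax', polar_self', hQa]; ring
  set k := r - polar Q f r • a - polar Q a r • f with hk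
  have hkU : k ∈ perp Q W := sub_mem (sub_mem hr ((perp Q W).smul_mem _ ha)) ((perp Q W).smul_mem _ hfU)
  have hka : polar Q a k = 0 := by
    simp only [hk, polar_sub_right, polar_smul_right', polar_self', hQa, haf]; ring
  have hkf : polar Q f k = 0 := by
    simp only [hk, polar_sub_right, polar_smul_right', polar_self', hQf, polar_comm (⇑Q) f a, haf]; ring
  have hzk : polar Q z k = 0 := by
    simp only [hk, polar_sub_right, polar_smul_right', hza, hzf, hzr]; ring
  have hs : Q (k + f + (-Q k) • a) = 0 := by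
    simp only [map_add_polar, qmap_smul, polar_add_left, polar_smul_right', hQa, hQf,
      polar_comm (⇑Q) k f, hkf, polar_comm (⇑Q) k a, hka, polar_comm (⇑Q) f a, haf]
    ring
  have hsT := hc _ (add_mem (add_mem hkU hfU) ((perp Q W).smul_mem _ ha)) hs
    (by simp only [polar_add_right, polar_smul_right', hza, hzf, hzk]; ring)
  have hkT : k ∈ T := by
    have := T.sub_mem (T.sub_mem hsT (hc f hfU hQf hzf)) (T.smul_mem (-Q k) (hc a ha hQa hza))
    convert this using 1; abel
  refine hrT ?_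
  have := T.add_mem (T.add_mem hkT (T.smul_mem (polar Q f r) (hc a ha hQa hza)))
    (T.smul_mem (polar Q a r) (hc f hfU hQf hzf))
  convert this using 1
  rw [hk]; abel

variable {X : Subgroup (O Q)} {W : Submodule F V}

omit [Fintype F] [FiniteDimensional F V] in
/-- An element of `X` fixing a centre inside `U` and moving its orthogonal out of `U` gives a root
element leading out. -/
theorem hasRootOut_of_move (hdec : ∀ z : V, ∃ p ∈ perp Q W, ∃ q ∈ W, z = p + q)
    (hroot : ∀ u w (hu : Q u = 0) (hw : polar Q u w = 0), u ∈ perp Q W → w ∈ perp Q W → sie u w hu hw ∈ X)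
    {h : O Q} (hh : h ∈ X) {s x : V} (hs : s ∈ perp Q W) (hs0 : s ≠ 0) (hQs : Q s = 0)
    (hhs : (h : V ≃ₗ[F] V) s ∈ perp Q W) (hx : x ∈ perp Q W) (hsx : polar Q s x = 0)
    (hhx : (h : V ≃ₗ[F] V) x ∉ perp Q W) : HasRootOut Q W X := by
  obtain ⟨p, hp, b, hb, hpb⟩ := hdec ((h : V ≃ₗ[F] V) x)
  have hQs' : Q ((h : V ≃ₗ[F] V) s) = 0 := by rw [O.map_app]; exact hQs
  have hsb : polar Q ((h : V ≃ₗ[F] V) s) b = 0 := by rw [polar_comm]; exact hhs b hb
  have hsp : polar Q ((h : V ≃ₗ[F] V) s) p = 0 := by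
    have : polar Q ((h : V ≃ₗ[F] V) s) ((h : V ≃ₗ[F] V) x) = 0 := by rw [O.polar_app]; exact hsx
    rw [hpb, polar_add_right, hsb, add_zero] at this
    exact this
  refine ⟨(h : V ≃ₗ[F] V) s, b, hQs', hsb, hhs, fun h0 => hs0 ((h : V ≃ₗ[F] V).map_eq_zero_iff.1 h0), hb,
    fun h0 => hhx (by rw [hpb, h0, add_zero]; exact hp), ?_⟩
  have h1 := X.mul_mem (X.mul_mem hh (hroot s x hQs hsx hs hx)) (X.inv_mem hh)
  rw [sie_conj] at h1
  have h2 := X.mul_mem (X.inv_mem (hroot _ p hQs' hsp hhs hp)) h1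
  convert h2 using 1
  rw [eq_inv_mul_iff_mul_eq, sie_mul]
  exact sie_congr _ _ _ _ rfl hpb.symm

/-- A subgroup containing the stabiliser of `W` and moving `W` has a root element leading out of the
orthogonal of `W`. -/
theorem exists_root_out (hQ : Nondeg Q) (hW : Nondeg (restr Q W)) (hd : 4 ≤ finrank F (perp Q W))
    (h4 : finrank F (perp Q W) = 4 → 4 ≤ finrank F W)
    (hL : HasSingularPlane Q (perp Q W))
    (hWn : ∀ a ∈ W, ∀ b ∈ W, Q a = 0 → Q b = 0 → polar Q a b = 0 → a ≠ 0 → b ∈ Submodule.span F {a})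
    (hroot : ∀ u w (hu : Q u = 0) (hw : polar Q u w = 0),
      (u ∈ perp Q W ∧ w ∈ perp Q W) ∨ (u ∈ W ∧ w ∈ W) → sie u w hu hw ∈ X)
    {g : O Q} (hgX : g ∈ X) (hgW : ∃ v ∈ W, (g : V ≃ₗ[F] V) v ∉ W) : HasRootOut Q W X := by
  by_contra hout
  set U := perp Q W with hUdef
  have hU : Nondeg (restr Q U) := hQ.nondeg_perp hW
  have hdisj : U ⊓ W = ⊥ := by rw [inf_comm]; exact (nondeg_restr_iff W).1 hW
  have hdec : ∀ z : V, ∃ p ∈ U, ∃ q ∈ W, z = p + q := fun z => by
    obtain ⟨q, hq, p, hp, hqp⟩ := Submodule.mem_sup.1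
      ((hQ.isCompl_perp hW).sup_eq_top ▸ Submodule.mem_top : z ∈ W ⊔ perp Q W)
    exact ⟨p, hp, q, hq, by rw [← hqp, add_comm]⟩
  have hUW : ∀ {p q : V}, p ∈ U → q ∈ W → polar Q p q = 0 := fun hp hq => by rw [polar_comm]; exact hp _ hq
  have hmove : ∀ {h : O Q}, h ∈ X → ∀ {s x : V}, s ∈ U → s ≠ 0 → Q s = 0 → (h : V ≃ₗ[F] V) s ∈ U → x ∈ U →
      polar Q s x = 0 → (h : V ≃ₗ[F] V) x ∈ U := by
    intro h hh s x hs hs0 hQs hhs hx hsx
    by_contra hhx
    exact hout (hasRootOut_of_move hdec (fun u w hu hw a b => hroot u w hu hw (Or.inl ⟨a, b⟩)) hh hs hs0 hQs hhs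
      hx hsx hhx)
  have hconj : ∀ {u w : V}, (u ∈ U ∧ w ∈ U) ∨ (u ∈ W ∧ w ∈ W) → Q u = 0 → polar Q u w = 0 →
      ∀ (hu : Q ((g : V ≃ₗ[F] V) u) = 0) (hw : polar Q ((g : V ≃ₗ[F] V) u) ((g : V ≃ₗ[F] V) w) = 0),
      sie ((g : V ≃ₗ[F] V) u) ((g : V ≃ₗ[F] V) w) hu hw ∈ X := by
    intro u w hm hu hw _ _
    have := X.mul_mem (X.mul_mem hgX (hroot u w hu hw hm)) (X.inv_mem hgX)
    rw [sie_conj] at this
    exact this
  -- no singular vector of `U` stays in `U`
  have hA : ∀ u ∈ U, u ≠ 0 → Q u = 0 → (g : V ≃ₗ[F] V) u ∉ U := by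
    intro u hu hu0 hQu hgu
    obtain ⟨w, hw, hw0, hQw, huw, huwsp⟩ := hL.exists_perp u hu0
    have hall : ∀ v : U, Q (v : V) = 0 → (g : V ≃ₗ[F] V) v ∈ U := by
      intro v hQv
      obtain ⟨c, hc, hc0, hQc, huc, hvc⟩ :
          ∃ c ∈ U, c ≠ 0 ∧ Q c = 0 ∧ polar Q u c = 0 ∧ polar Q (v : V) c = 0 := by
        by_cases h0 : polar Q (v : V) u = 0
        · exact ⟨u, hu, hu0, hQu, by rw [polar_self', hQu, mul_zero], h0⟩
        refine ⟨polar Q (v : V) w • u - polar Q (v : V) u • w, U.sub_mem (U.smul_mem _ hu) (U.smul_mem _ hw),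
          fun h => huwsp ?_, ?_, ?_, ?_⟩
        · rw [sub_eq_zero] at h
          have hv1 : polar Q (v : V) w ≠ 0 := fun h1 => by
            rw [h1, zero_smul] at h
            exact hw0 ((smul_eq_zero.1 h.symm).resolve_left h0)
          exact Submodule.mem_span_singleton.2 ⟨_, by rw [← inv_smul_smul₀ hv1 u, h, smul_smul]⟩
        · simp only [qmap_sub, qmap_smul, polar_smul_left', polar_smul_right', hQu, hQw, huw]; ring
        · simp only [polar_sub_right, polar_smul_right', polar_self', hQu, huw]; ring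
        · simp only [polar_sub_right, polar_smul_right']; ring
      exact hmove hgX hc hc0 hQc (hmove hgX hu hu0 hQu hgu hc huc) v.2 (by rw [polar_comm]; exact hvc)
    have hgU : ∀ v ∈ U, (g : V ≃ₗ[F] V) v ∈ U := by
      intro v hv
      have := span_singular hU (by omega) ((U.comap ((g : V ≃ₗ[F] V) : V →ₗ[F] V)).comap U.subtype)
        (fun u hu => hall u (by rwa [restr_apply] at hu))
      exact (this.symm ▸ Submodule.mem_top : (⟨v, hv⟩ : U) ∈ _)
    obtain ⟨v₀, hv₀, hv₀'⟩ := hgW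
    have := perp_invariant g hgU
    rw [hUdef, hQ.perp_perp] at this
    exact hv₀' (this v₀ hv₀)
  -- nor does one move into `W`
  have hB : ∀ u ∈ U, u ≠ 0 → Q u = 0 → (g : V ≃ₗ[F] V) u ∉ W := by
    intro u hu hu0 hQu hgu
    obtain ⟨w, hw, hw0, hQw, huw, huwsp⟩ := hL.exists_perp u hu0
    have ha : Q ((g : V ≃ₗ[F] V) u) = 0 := by rw [O.map_app]; exact hQu
    have hb : Q ((g : V ≃ₗ[F] V) w) = 0 := by rw [O.map_app]; exact hQw
    have hab : polar Q ((g : V ≃ₗ[F] V) u) ((g : V ≃ₗ[F] V) w) = 0 := by rw [O.polar_app]; exact huw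
    have ha0 : (g : V ≃ₗ[F] V) u ≠ 0 := fun h => hu0 ((g : V ≃ₗ[F] V).map_eq_zero_iff.1 h)
    obtain ⟨p, hp, q, hq, hpq⟩ := hdec ((g : V ≃ₗ[F] V) w)
    have hp0 : p ≠ 0 := fun h => huwsp <| by
      have hgw : (g : V ≃ₗ[F] V) w ∈ W := by rw [hpq, h, zero_add]; exact hq
      obtain ⟨c, hc⟩ := Submodule.mem_span_singleton.1 (hWn _ hgu _ hgw ha hb hab ha0)
      rw [← map_smul, (g : V ≃ₗ[F] V).injective.eq_iff] at hc
      have hc0 : c ≠ 0 := fun h => hw0 (by rw [← hc, h, zero_smul])
      exact Submodule.mem_span_singleton.2 ⟨c⁻¹, by rw [← hc, inv_smul_smul₀ hc0]⟩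
    obtain ⟨s, hs, hs0, hQs, hps, hpsp⟩ := hL.exists_perp p hp0
    obtain ⟨x, hx, hxl, hpx⟩ := exists_sep hQ hW (L := Submodule.span F {s}) (by simpa using hs) hp hpsp
    have happ : ∀ {y : V}, y ∈ U → (sie _ _ ha hab : V ≃ₗ[F] V) y = y + polar Q p y • (g : V ≃ₗ[F] V) u := by
      intro y hy
      have h1 : polar Q ((g : V ≃ₗ[F] V) u) y = 0 := by rw [polar_comm]; exact hUW hy hgu
      have h2 : polar Q ((g : V ≃ₗ[F] V) w) y = polar Q p y := by
        rw [hpq, polar_add_left, polar_comm (⇑Q) q y, hUW hy hq, add_zero]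
      rw [sie_app, h1, h2, hb, zero_mul, sub_zero, zero_smul, sub_zero]
    have := hmove (hconj (Or.inl ⟨hu, hw⟩) hQu huw ha hab) hs hs0 hQs
      (by rw [happ hs, hps, zero_smul, add_zero]; exact hs) hx (hxl s (Submodule.mem_span_singleton_self s))
    rw [happ hx, U.add_mem_iff_right hx, Submodule.smul_mem_iff _ hpx] at this
    exact ha0 ((Submodule.mem_bot F).1 (hdisj ▸ (⟨this, hgu⟩ : (g : V ≃ₗ[F] V) u ∈ U ⊓ W)))
  -- the parts of `U` sent into `W` and into `U` fill it
  set N := U ⊓ W.comap ((g : V ≃ₗ[F] V) : V →ₗ[F] V) with hN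
  set M := U ⊓ U.comap ((g : V ≃ₗ[F] V) : V →ₗ[F] V) with hM
  have hfill : ∀ u ∈ U, Q u = 0 → u ∈ N ⊔ M := by
    intro u hu hQu
    rcases eq_or_ne u 0 with rfl | hu0
    · exact Submodule.zero_mem _
    obtain ⟨w, hw, hw0, hQw, huw, huwsp⟩ := hL.exists_perp u hu0
    obtain ⟨pa, hpa, qa, hqa, hae⟩ := hdec ((g : V ≃ₗ[F] V) u)
    obtain ⟨pb, hpb, qb, hqb, hbe⟩ := hdec ((g : V ≃ₗ[F] V) w)
    have ha : Q ((g : V ≃ₗ[F] V) u) = 0 := by rw [O.map_app]; exact hQu
    have hb : Q ((g : V ≃ₗ[F] V) w) = 0 := by rw [O.map_app]; exact hQw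
    have hab : polar Q ((g : V ≃ₗ[F] V) u) ((g : V ≃ₗ[F] V) w) = 0 := by rw [O.polar_app]; exact huw
    have hind : ∀ α β : F, α • qa + β • qb = 0 ∨ α • pa + β • pb = 0 → α = 0 ∧ β = 0 := by
      intro α β h
      have hsum : α • u + β • w = 0 := by
        by_contra hne
        have hQv : Q (α • u + β • w) = 0 := by
          rw [map_add_polar, qmap_smul, qmap_smul, polar_smul_left', polar_smul_right', hQu, hQw, huw]; ring
        have hgv : (g : V ≃ₗ[F] V) (α • u + β • w) = (α • pa + β • pb) + (α • qa + β • qb) := by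
          rw [map_add, map_smul, map_smul, hae, hbe]; module
        have hv := U.add_mem (U.smul_mem α hu) (U.smul_mem β hw)
        rcases h with h | h
        · exact hA _ hv hne hQv (by rw [hgv, h, add_zero]; exact U.add_mem (U.smul_mem _ hpa) (U.smul_mem _ hpb))
        · exact hB _ hv hne hQv (by rw [hgv, h, zero_add]; exact W.add_mem (W.smul_mem _ hqa) (W.smul_mem _ hqb))
      have hα : α = 0 := by
        by_contra hα
        refine huwsp (Submodule.mem_span_singleton.2 ⟨-(α⁻¹ * β), ?_⟩)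
        rw [← inv_smul_smul₀ hα u, eq_neg_of_add_eq_zero_left hsum]; module
      rw [hα, zero_smul, zero_add, smul_eq_zero] at hsum
      exact ⟨hα, hsum.resolve_right hw0⟩
    have hqa0 : qa ≠ 0 := fun h => one_ne_zero (hind 1 0 (Or.inl (by rw [h]; simp))).1
    have hpa0 : pa ≠ 0 := fun h => one_ne_zero (hind 1 0 (Or.inr (by rw [h]; simp))).1
    have hpU : ∀ {y p q z : V}, y ∈ U → q ∈ W → z = p + q → polar Q z y = polar Q p y := by
      rintro y p q z hy hq rfl
      rw [polar_add_left, polar_comm (⇑Q) q y, hUW hy hq, add_zero]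
    -- no singular vector of `U` is orthogonal to both projections
    have hnone : ∀ s ∈ U, s ≠ 0 → Q s = 0 → polar Q pa s = 0 → polar Q pb s = 0 → False := by
      intro s hs hs0 hQs h1 h2
      have happ : ∀ {y : V}, y ∈ U → (sie _ _ ha hab : V ≃ₗ[F] V) y =
          y + polar Q pb y • (g : V ≃ₗ[F] V) u - polar Q pa y • (g : V ≃ₗ[F] V) w := by
        intro y hy
        rw [sie_app, hb, hpU hy hqb hbe, hpU hy hqa hae, zero_mul, sub_zero]
      obtain ⟨z, hz, hzs⟩ : ∃ z, (z = pa ∨ z = pb) ∧ z ∉ Submodule.span F {s} := by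
        by_contra hc
        push Not at hc
        obtain ⟨a₁, h₁⟩ := Submodule.mem_span_singleton.1 (hc pa (Or.inl rfl))
        obtain ⟨b₁, h₂⟩ := Submodule.mem_span_singleton.1 (hc pb (Or.inr rfl))
        have := (hind b₁ (-a₁) (Or.inr (by rw [← h₁, ← h₂]; module))).2
        exact hpa0 (by rw [← h₁, neg_eq_zero.1 this, zero_smul])
      obtain ⟨x, hx, hxl, hzx⟩ := exists_sep hQ hW (L := Submodule.span F {s}) (by simpa using hs)
        (by rcases hz with rfl | rfl <;> assumption) hzs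
      have := hmove (hconj (Or.inl ⟨hu, hw⟩) hQu huw ha hab) hs hs0 hQs
        (by rw [happ hs, h1, h2]; simpa using hs) hx (hxl s (Submodule.mem_span_singleton_self s))
      rw [happ hx, hae, hbe, add_sub_assoc, U.add_mem_iff_right hx] at this
      have hq0 : polar Q pb x • qa + (-polar Q pa x) • qb = 0 := by
        refine (Submodule.mem_bot F).1 (hdisj ▸ (Submodule.mem_inf.2 ⟨?_, W.add_mem (W.smul_mem _ hqa) (W.smul_mem _ hqb)⟩ :
          polar Q pb x • qa + (-polar Q pa x) • qb ∈ U ⊓ W))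
        have h3 := U.sub_mem this (U.sub_mem (U.smul_mem (polar Q pb x) hpa) (U.smul_mem (polar Q pa x) hpb))
        convert h3 using 1
        module
      obtain ⟨e1, e2⟩ := hind _ _ (Or.inl hq0)
      rcases hz with rfl | rfl
      · exact hzx (neg_eq_zero.1 e2)
      · exact hzx e1
    -- so their span is anisotropic
    have haniso : ∀ α β : F, Q (α • pa + β • pb) = 0 → α = 0 ∧ β = 0 := by
      intro α β hy
      by_contra hne
      have hyU : α • pa + β • pb ∈ U := U.add_mem (U.smul_mem α hpa) (U.smul_mem β hpb)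
      have hy0 : α • pa + β • pb ≠ 0 := fun h => hne (hind α β (Or.inr h))
      set y := α • pa + β • pb with hy'
      obtain ⟨w', hw', hw'0, hQw', hyw', hysp⟩ := hL.exists_perp y hy0
      classical
      set z := if β = 0 then pb else pa with hz
      obtain ⟨s, hs, hs0, hQs, hys, hzs⟩ : ∃ s ∈ U, s ≠ 0 ∧ Q s = 0 ∧ polar Q y s = 0 ∧ polar Q z s = 0 := by
        by_cases h0 : polar Q z y = 0
        · exact ⟨y, hyU, hy0, hy, by rw [polar_self', hy, mul_zero], h0⟩
        refine ⟨polar Q z w' • y - polar Q z y • w', U.sub_mem (U.smul_mem _ hyU) (U.smul_mem _ hw'), ?_, ?_, ?_, ?_⟩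
        · intro h
          rw [sub_eq_zero] at h
          refine hysp ?_
          have h1 : polar Q z w' ≠ 0 := fun h1 => by
            rw [h1, zero_smul] at h
            exact hw'0 ((smul_eq_zero.1 h.symm).resolve_left h0)
          exact Submodule.mem_span_singleton.2 ⟨_, by rw [← inv_smul_smul₀ h1 y, h, smul_smul]⟩
        · simp only [qmap_sub, qmap_smul, polar_smul_left', polar_smul_right', hy, hQw', hyw']; ring
        · simp only [polar_sub_right, polar_smul_right', polar_self', hy, hyw']; ring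
        · simp only [polar_sub_right, polar_smul_right']; ring
      rw [hy', polar_add_left, polar_smul_left', polar_smul_left'] at hys
      rcases eq_or_ne β 0 with hβ | hβ
      · rw [hz, if_pos hβ] at hzs
        rw [hzs, mul_zero, add_zero] at hys
        have hα : α ≠ 0 := fun hα => hne ⟨hα, hβ⟩
        exact hnone s hs hs0 hQs ((mul_eq_zero.1 hys).resolve_left hα) hzs
      · rw [hz, if_neg hβ] at hzs
        rw [hzs, mul_zero, zero_add] at hys
        exact hnone s hs hs0 hQs hzs ((mul_eq_zero.1 hys).resolve_left hβ)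
    have hQpa : Q pa ≠ 0 := fun h => one_ne_zero (haniso 1 0 (by simpa using h)).1
    by_cases hker : ∃ w₀ ∈ U, w₀ ≠ 0 ∧ polar Q u w₀ = 0 ∧ (g : V ≃ₗ[F] V) w₀ ∈ W
    · -- a vector sent into `W`
      obtain ⟨w₀, hw₀, hw₀0, huw₀, hgw₀⟩ := hker
      have he : Q w₀ ≠ 0 := fun h => hB w₀ hw₀ hw₀0 h hgw₀
      have hab₀ : polar Q ((g : V ≃ₗ[F] V) u) ((g : V ≃ₗ[F] V) w₀) = 0 := by rw [O.polar_app]; exact huw₀
      have happ : ∀ {y : V}, y ∈ U → (sie _ _ ha hab₀ : V ≃ₗ[F] V) y =
          y + (-(Q w₀ * polar Q pa y)) • (g : V ≃ₗ[F] V) u - polar Q pa y • (g : V ≃ₗ[F] V) w₀ := by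
        intro y hy
        rw [sie_app, O.map_app, hpU hy hqa hae, polar_comm (⇑Q) _ y, hUW hy hgw₀, zero_sub]
      obtain ⟨s, hs, hs0, hQs, hps, hpsp⟩ := hL.exists_perp pa hpa0
      obtain ⟨x, hx, hxl, hpx⟩ := exists_sep hQ hW (L := Submodule.span F {s}) (by simpa using hs) hpa hpsp
      have := hmove (hconj (Or.inl ⟨hu, hw₀⟩) hQu huw₀ ha hab₀) hs hs0 hQs
        (by rw [happ hs, hps]; simpa using hs) hx (hxl s (Submodule.mem_span_singleton_self s))
      rw [happ hx, add_sub_assoc, U.add_mem_iff_right hx] at this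
      have hq0 : Q w₀ • qa + (g : V ≃ₗ[F] V) w₀ = 0 := by
        refine (Submodule.mem_bot F).1 (hdisj ▸ (Submodule.mem_inf.2 ⟨?_, W.add_mem (W.smul_mem _ hqa) hgw₀⟩ :
          Q w₀ • qa + (g : V ≃ₗ[F] V) w₀ ∈ U ⊓ W))
        rw [← Submodule.smul_mem_iff _ (neg_ne_zero.2 hpx)]
        have h3 := U.sub_mem this (U.smul_mem (-(Q w₀ * polar Q pa x)) hpa)
        convert h3 using 1
        rw [hae]; module
      have h1 : Q w₀ • u + w₀ ∈ M := by
        refine ⟨U.add_mem (U.smul_mem _ hu) hw₀, ?_⟩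
        rw [SetLike.mem_coe, Submodule.mem_comap, LinearEquiv.coe_coe, map_add, map_smul, hae, smul_add, add_assoc, hq0, add_zero]
        exact U.smul_mem _ hpa
      rw [← Submodule.smul_mem_iff _ he, show Q w₀ • u = -w₀ + (Q w₀ • u + w₀) by abel]
      exact Submodule.add_mem _ (Submodule.mem_sup_left ⟨U.neg_mem hw₀,
        by rw [SetLike.mem_coe, Submodule.mem_comap, map_neg]; exact W.neg_mem hgw₀⟩) (Submodule.mem_sup_right h1)
    · -- the projection is injective on the orthogonal of `u`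
      exfalso
      push Not at hker
      set K := U ⊓ perp Q (Submodule.span F {u}) with hK
      have huK : u ∈ K := ⟨hu, (mem_perp_span_singleton Q).2 (by rw [polar_self', hQu, mul_zero])⟩
      have hwK : w ∈ K := ⟨hw, (mem_perp_span_singleton Q).2 huw⟩
      set T := (K.map ((g : V ≃ₗ[F] V) : V →ₗ[F] V) ⊔ W) ⊓ U with hT
      have hKT : ∀ {v p q : V}, v ∈ K → p ∈ U → q ∈ W → (g : V ≃ₗ[F] V) v = p + q → p ∈ T := by
        intro v p q hv hp hq h
        exact ⟨Submodule.mem_sup.2 ⟨_, ⟨v, hv, rfl⟩, -q, W.neg_mem hq,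
          by rw [LinearEquiv.coe_coe, h, add_neg_cancel_right]⟩, hp⟩
      -- some vector orthogonal to `pa` is outside `T`
      obtain ⟨r, hr, hpr, hrT⟩ : ∃ r ∈ U, polar Q pa r = 0 ∧ r ∉ T := by
        by_contra hc
        push Not at hc
        obtain ⟨z, hz, hzT⟩ : ∃ z, z ∈ U ∧ z ∉ T := by
          by_contra hc2
          push Not at hc2
          have h1 := Submodule.finrank_mono (show U ⊔ W ≤ K.map ((g : V ≃ₗ[F] V) : V →ₗ[F] V) ⊔ W from
            sup_le (fun z hz => (hc2 z hz).1) le_sup_right)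
          have h2 := Submodule.finrank_sup_add_finrank_inf_eq U W
          rw [hdisj, finrank_bot] at h2
          have h3 := Submodule.finrank_add_le_finrank_add_finrank (K.map ((g : V ≃ₗ[F] V) : V →ₗ[F] V)) W
          rw [LinearEquiv.finrank_map_eq] at h3
          have h5 : K < U := lt_of_le_of_ne inf_le_left fun h => by
            have hz : (⟨u, hu⟩ : U) = 0 := hU ⟨u, hu⟩ fun y => by
              rw [polar_restr]
              exact (mem_perp_span_singleton Q).1 ((show (y : V) ∈ K from h.symm ▸ y.2).2)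
            exact hu0 (congrArg Subtype.val hz)
          have := Submodule.finrank_lt_finrank_of_lt h5
          omega
        -- one of the two projections is not orthogonal to `pa`
        obtain ⟨y, hyT, hy⟩ : ∃ y ∈ T, polar Q pa y ≠ 0 := by
          by_contra hc3
          push Not at hc3
          have e1 := hc3 pa (hKT huK hpa hqa hae)
          have e2 := hc3 pb (hKT hwK hpb hqb hbe)
          rw [polar_self'] at e1
          have h2 := (mul_eq_zero.1 e1).resolve_right hQpa
          obtain ⟨t, ht⟩ := isSquare_of_two_eq_zero h2 (-(Q pb) / Q pa)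
          refine one_ne_zero (haniso t 1 ?_).2
          rw [map_add_polar, qmap_smul, qmap_smul, polar_smul_left', polar_smul_right', e2, pow_two t, ← ht]
          field_simp; ring
        refine hzT ?_
        have := T.add_mem (hc (z - (polar Q pa z / polar Q pa y) • y) (U.sub_mem hz (U.smul_mem _ hyT.2))
          (by rw [polar_sub_right, polar_smul_right', div_mul_cancel₀ _ hy, sub_self]))
          (T.smul_mem (polar Q pa z / polar Q pa y) hyT)
        simpa using this
      obtain ⟨s, hs, hQs, hps, hsT⟩ := exists_singular_not_mem hQ hW hL hpa hQpa T hr hpr hrT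
      have hs0 : s ≠ 0 := fun h => hsT (h ▸ Submodule.zero_mem _)
      obtain ⟨w₁, hw₁, hw₁s, hw₁u⟩ : ∃ w₁ ∈ K, polar Q ((g : V ≃ₗ[F] V) w₁) s = 0 ∧
          w₁ ∉ Submodule.span F {u} := by
        by_contra hc
        push Not at hc
        have huw' : w ∉ Submodule.span F {u} := fun h => huwsp <| by
          obtain ⟨c, hc⟩ := Submodule.mem_span_singleton.1 h
          have hc0 : c ≠ 0 := fun h => hw0 (by rw [← hc, h, zero_smul])
          exact Submodule.mem_span_singleton.2 ⟨c⁻¹, by rw [← hc, inv_smul_smul₀ hc0]⟩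
        have hwS : polar Q ((g : V ≃ₗ[F] V) w) s ≠ 0 := fun h => huw' (hc w hwK h)
        have hKle : K ≤ Submodule.span F {u} ⊔ Submodule.span F {w} := fun y hy => by
          have := hc (y - (polar Q ((g : V ≃ₗ[F] V) y) s / polar Q ((g : V ≃ₗ[F] V) w) s) • w)
            (K.sub_mem hy (K.smul_mem _ hwK))
            (by rw [map_sub, map_smul, polar_sub_left, polar_smul_left', div_mul_cancel₀ _ hwS, sub_self])
          exact Submodule.mem_sup.2 ⟨_, this, _, Submodule.smul_mem _ _ (Submodule.mem_span_singleton_self w),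
            sub_add_cancel y _⟩
        have h1 := (Submodule.finrank_mono hKle).trans (Submodule.finrank_add_le_finrank_add_finrank _ _)
        rw [finrank_span_singleton hu0, finrank_span_singleton hw0] at h1
        have h2 := Submodule.finrank_sup_add_finrank_inf_eq U (perp Q (Submodule.span F {u}))
        have h3 := hQ.finrank_perp_singleton hu0
        have h4 := Submodule.finrank_le (U ⊔ perp Q (Submodule.span F {u}))
        rw [← hK] at h2
        omega
      obtain ⟨p₁, hp₁, q₁, hq₁, hbe₁⟩ := hdec ((g : V ≃ₗ[F] V) w₁)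
      have hp₁s : polar Q p₁ s = 0 := by rw [← hpU hs hq₁ hbe₁]; exact hw₁s
      have hp₁n : p₁ ∉ Submodule.span F {pa} ⊔ Submodule.span F {s} := by
        intro h
        obtain ⟨a', ha', s', hs', hsum⟩ := Submodule.mem_sup.1 h
        obtain ⟨γ, rfl⟩ := Submodule.mem_span_singleton.1 ha'
        obtain ⟨δ, rfl⟩ := Submodule.mem_span_singleton.1 hs'
        have hδ : δ = 0 := by
          by_contra hδ
          refine hsT ((Submodule.smul_mem_iff _ hδ).1 ?_)
          rw [show δ • s = p₁ - γ • pa from eq_sub_of_add_eq' hsum]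
          exact T.sub_mem (hKT hw₁ hp₁ hq₁ hbe₁) (T.smul_mem _ (hKT huK hpa hqa hae))
        rw [hδ, zero_smul, add_zero] at hsum
        refine hw₁u (Submodule.mem_span_singleton.2 ⟨γ, ?_⟩)
        by_contra hne
        refine hker (w₁ - γ • u) (U.sub_mem hw₁.1 (U.smul_mem _ hu)) (sub_ne_zero.2 (Ne.symm hne)) ?_ ?_
        · rw [polar_sub_right, polar_smul_right', (mem_perp_span_singleton Q).1 hw₁.2, polar_self', hQu]; ring
        · rw [map_sub, map_smul, hbe₁, hae, ← hsum, show γ • pa + q₁ - γ • (pa + qa) = q₁ - γ • qa by module]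
          exact W.sub_mem hq₁ (W.smul_mem _ hqa)
      obtain ⟨x, hx, hxl, hpx⟩ := exists_sep hQ hW (L := Submodule.span F {pa} ⊔ Submodule.span F {s})
        (sup_le (by simpa using hpa) (by simpa using hs)) hp₁ hp₁n
      have hpax := hxl pa (Submodule.mem_sup_left (Submodule.mem_span_singleton_self pa))
      have hsx := hxl s (Submodule.mem_sup_right (Submodule.mem_span_singleton_self s))
      have hab₁ : polar Q ((g : V ≃ₗ[F] V) u) ((g : V ≃ₗ[F] V) w₁) = 0 := by
        rw [O.polar_app]; exact (mem_perp_span_singleton Q).1 hw₁.2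
      have happ : ∀ {y : V}, y ∈ U → polar Q pa y = 0 → (sie _ _ ha hab₁ : V ≃ₗ[F] V) y =
          y + polar Q p₁ y • (g : V ≃ₗ[F] V) u := by
        intro y hy h0
        rw [sie_app, hpU hy hq₁ hbe₁, hpU hy hqa hae, h0, mul_zero, sub_zero, zero_smul, sub_zero]
      have := hmove (hconj (Or.inl ⟨hu, hw₁.1⟩) hQu ((mem_perp_span_singleton Q).1 hw₁.2) ha hab₁) hs hs0 hQs
        (by rw [happ hs hps, hp₁s]; simpa using hs) hx hsx
      rw [happ hx hpax, U.add_mem_iff_right hx, Submodule.smul_mem_iff _ hpx] at this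
      exact hA u hu hu0 hQu this
  -- `U` is the sum of two anisotropic planes
  have hUle : U ≤ N ⊔ M := fun v hv => by
    have := span_singular hU (by omega) ((N ⊔ M).comap U.subtype)
      (fun u hu => hfill u u.2 (by rwa [restr_apply] at hu))
    exact (this.symm ▸ Submodule.mem_top : (⟨v, hv⟩ : U) ∈ _)
  have hNM : H96.EvenMax.Orth Q N M := fun n hn m hm => by
    rw [← O.polar_app g, polar_comm]
    exact hUW hm.2 hn.2
  have hNa : Aniso Q N := fun n hn hQn => by_contra fun h0 => hB n hn.1 h0 hQn hn.2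
  have hMa : Aniso Q M := fun m hm hQm => by_contra fun h0 => hA m hm.1 h0 hQm hm.2
  have hnd : ∀ {A B : Submodule F V}, A ≤ U → H96.EvenMax.Orth Q A B → U ≤ A ⊔ B → Nondeg (restr Q A) := by
    intro A B hAU hAB hle x hx
    have hz : (⟨(x : V), hAU x.2⟩ : U) = 0 := hU ⟨x, hAU x.2⟩ fun y => by
      obtain ⟨a, ha, b, hb, hab⟩ := Submodule.mem_sup.1 (hle y.2)
      have h1 := hx ⟨a, ha⟩
      rw [polar_restr] at h1
      rw [polar_restr]
      change polar Q (x : V) (y : V) = 0
      rw [← hab, polar_add_right, h1, hAB _ x.2 _ hb, add_zero]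
    have h := congrArg Subtype.val hz
    exact Subtype.ext h
  have hNn : Nondeg (restr Q N) := hnd (A := N) inf_le_left hNM hUle
  have hMn : Nondeg (restr Q M) := hnd (A := M) inf_le_left hNM.symm (hUle.trans_eq (sup_comm N M))
  have hN2 := finrank_le_two_of_aniso hNn hNa
  have hM2 := finrank_le_two_of_aniso hMn hMa
  have hdNM := (Submodule.finrank_mono hUle).trans (Submodule.finrank_add_le_finrank_add_finrank N M)
  have hW4 := h4 (by omega)
  -- the second half of `W`
  set N' := N.map ((g : V ≃ₗ[F] V) : V →ₗ[F] V) with hN'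
  have hN'W : N' ≤ W := by
    rintro _ ⟨n, hn, rfl⟩
    exact hn.2
  have hN'n : Nondeg (restr Q N') := by
    rintro ⟨_, n, hn, rfl⟩ hx
    have : (⟨n, hn⟩ : N) = 0 := hNn ⟨n, hn⟩ fun y => by
      have := hx ⟨_, y, y.2, rfl⟩
      rw [polar_restr] at this
      change polar Q ((g : V ≃ₗ[F] V) n) ((g : V ≃ₗ[F] V) (y : V)) = 0 at this
      rw [O.polar_app] at this
      rw [polar_restr]; exact this
    have h0 : n = 0 := congrArg Subtype.val this
    exact Subtype.ext (show (g : V ≃ₗ[F] V) n = 0 by rw [h0, map_zero])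
  have hN'a : Aniso Q N' := by
    rintro _ ⟨n, hn, rfl⟩ h
    rw [LinearEquiv.coe_coe, O.map_app] at h
    rw [hNa n hn h, map_zero]
  have hN'd : finrank F N' = finrank F N := LinearEquiv.finrank_map_eq _ _
  set B := W ⊓ perp Q N' with hB'
  have horth : H96.EvenMax.Orth Q N' B := fun n hn b hb => hb.2 n hn
  have hsupW : N' ⊔ B = W := by
    refine le_antisymm (sup_le hN'W inf_le_left) fun z hz => ?_
    obtain ⟨n, hn, b, hb, rfl⟩ := Submodule.mem_sup.1
      ((hQ.isCompl_perp hN'n).sup_eq_top ▸ Submodule.mem_top : z ∈ N' ⊔ perp Q N')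
    exact Submodule.add_mem_sup hn ⟨by simpa using W.sub_mem hz (hN'W hn), hb⟩
  have hBd : finrank F W = finrank F N' + finrank F B := by
    rw [← hsupW]; exact H96.EvenMax.finrank_sup_orth horth hN'n
  have hBn : Nondeg (restr Q B) := by
    intro x hx
    have hz : (⟨(x : V), x.2.1⟩ : W) = 0 := hW ⟨x, x.2.1⟩ fun y => by
      obtain ⟨a, ha, b, hb, hab⟩ := Submodule.mem_sup.1 (hsupW.ge y.2)
      have h1 := hx ⟨b, hb⟩
      rw [polar_restr] at h1
      rw [polar_restr]
      change polar Q (x : V) (y : V) = 0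
      rw [← hab, polar_add_right, h1, horth.symm _ x.2 _ ha, add_zero]
    have h := congrArg Subtype.val hz
    exact Subtype.ext h
  obtain ⟨c, hc, hc0, hQc⟩ : ∃ c ∈ B, c ≠ 0 ∧ Q c = 0 := by
    by_contra hcon
    push Not at hcon
    have hBa : Aniso Q B := fun b hb h => by_contra fun h0 => hcon b hb h0 h
    have hB2 := finrank_le_two_of_aniso hBn hBa
    have hnotplus : ∀ {A : Submodule F V}, Aniso Q A → finrank F A = 2 → ¬ H96.EvenMax.Plus Q A := by
      rintro A hA' hA2 ⟨L, hLA, hLs, hLd⟩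
      obtain ⟨l, hl, hl0⟩ := Submodule.exists_mem_ne_zero_of_ne_bot (p := L) fun h => by
        rw [h, finrank_bot] at hLd; omega
      exact hl0 (hA' l (hLA hl) (hLs l hl))
    have hev : Even (finrank F N') := ⟨1, by omega⟩
    obtain ⟨φ, hφ⟩ := H96.EvenMax.iso_of_type hN'n hBn hev (by omega)
      (iff_of_false (hnotplus hN'a (by omega)) (hnotplus hBa (by omega)))
    obtain ⟨L, hLW, hLs, hLd⟩ := H96.EvenMax.plus_pair horth hN'n hev φ hφ
    rw [hsupW] at hLW hLd
    obtain ⟨e, he, he0⟩ := Submodule.exists_mem_ne_zero_of_ne_bot (p := L) fun h => by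
      rw [h, finrank_bot] at hLd; omega
    have := (Submodule.finrank_mono (show L ≤ Submodule.span F {e} from fun f hf =>
      hWn e (hLW he) f (hLW hf) (hLs e he) (hLs f hf) (TotSing.polar_eq hLs he hf) he0)).trans_eq
      (finrank_span_singleton he0)
    omega
  set M' := M.map ((g : V ≃ₗ[F] V) : V →ₗ[F] V) with hM'
  obtain ⟨n, hnU, hnM, hn0⟩ : ∃ n ∈ U, n ∈ perp Q M' ∧ n ≠ 0 := by
    by_contra hcon
    push Not at hcon
    have h1 := Submodule.finrank_sup_add_finrank_inf_eq U (perp Q M')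
    rw [show U ⊓ perp Q M' = ⊥ from (Submodule.eq_bot_iff _).2 fun z hz => hcon z hz.1 hz.2, finrank_bot] at h1
    have h2 := hQ.finrank_add_perp M'
    have h3 : finrank F M' = finrank F M := LinearEquiv.finrank_map_eq _ _
    have h5 := Submodule.finrank_le (U ⊔ perp Q M')
    omega
  have hback : ∀ z : V, (∀ y ∈ N', polar Q y z = 0) → (∀ y ∈ M', polar Q y z = 0) →
      (g : V ≃ₗ[F] V).symm z ∈ W := by
    intro z h1 h2
    rw [← hQ.perp_perp W]
    intro y hy
    rw [← O.polar_app g, LinearEquiv.apply_symm_apply]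
    obtain ⟨a, ha, b, hb, rfl⟩ := Submodule.mem_sup.1 (hUle hy)
    rw [map_add, polar_add_left]
    exact (congrArg₂ (· + ·) (h1 _ ⟨a, ha, rfl⟩) (h2 _ ⟨b, hb, rfl⟩)).trans (add_zero 0)
  have hM'U : ∀ y ∈ M', y ∈ U := by
    rintro _ ⟨m, hm, rfl⟩
    exact hm.2
  have hcW := hback c hc.2 fun y hy => hUW (hM'U y hy) hc.1
  have hnW := hback n (fun y hy => by rw [polar_comm]; exact hUW hnU (hN'W hy)) hnM
  have hcn : polar Q c n = 0 := by rw [polar_comm]; exact hUW hnU hc.1
  have hQc' : Q ((g : V ≃ₗ[F] V).symm c) = 0 := by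
    rw [← O.map_app g, LinearEquiv.apply_symm_apply]; exact hQc
  have hcn' : polar Q ((g : V ≃ₗ[F] V).symm c) ((g : V ≃ₗ[F] V).symm n) = 0 := by
    rw [← O.polar_app g, LinearEquiv.apply_symm_apply, LinearEquiv.apply_symm_apply]; exact hcn
  have hmem : sie c n hQc hcn ∈ X := by
    have := hconj (Or.inr ⟨hcW, hnW⟩) hQc' hcn' (by rw [LinearEquiv.apply_symm_apply]; exact hQc)
      (by rw [LinearEquiv.apply_symm_apply, LinearEquiv.apply_symm_apply]; exact hcn)
    convert this using 1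
    exact sie_congr _ _ _ _ ((g : V ≃ₗ[F] V).apply_symm_apply c).symm ((g : V ≃ₗ[F] V).apply_symm_apply n).symm
  have happ : ∀ {y : V}, y ∈ U → (sie c n hQc hcn : V ≃ₗ[F] V) y = y + polar Q n y • c := fun {y} hy => by
    rw [sie_app, polar_comm (⇑Q) c y, hUW hy hc.1, mul_zero, sub_zero, zero_smul, sub_zero]
  obtain ⟨s, hs, hs0, hQs, hns, hnsp⟩ := hL.exists_perp n hn0
  obtain ⟨x, hx, hxl, hnx⟩ := exists_sep hQ hW (L := Submodule.span F {s}) (by simpa using hs) hnU hnsp
  have := hmove hmem hs hs0 hQs (by rw [happ hs, hns]; simpa using hs) hx (hxl s (Submodule.mem_span_singleton_self s))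
  rw [happ hx, U.add_mem_iff_right hx, Submodule.smul_mem_iff _ hnx] at this
  exact hc0 ((Submodule.mem_bot F).1 (hdisj ▸ (⟨this, hc.1⟩ : c ∈ U ⊓ W)))

end Cfsg.Agent.H97.OmegaEight
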