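import Cfsg.Agent.H98.SubfieldOrth.Points

/-!
Rational points in dimension at least eight: three-dimensional orthogonal spaces suffice.
-/

set_option autoImplicit false

namespace Cfsg.Agent.H97.OmegaEight.Sub

open QuadraticMap Module Cfsg.Agent.Orthogonal Cfsg.Agent.H98 Cfsg.Agent.H98.SubfieldOrth
open Cfsg.Agent.H98.SubfieldOrth.RatStr (not_mem_line)

variable {F V : Type*} [Field F] [Finite F] [AddCommGroup V] [Module F V] [FiniteDimensional F V]
  {Q : QuadraticForm F V} {F₀ : Subfield F} {R : RatStr Q F₀} {X : Subgroup (O Q)}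

omit [FiniteDimensional F V] in
/-- Three root elements with rational vectors leave a multiple of their centre. -/
theorem sIn_defect [FiniteDimensional F V] (hQ : Nondeg Q) (h5 : 5 ≤ finrank F V) (hX : R.Over X) {p b : V}
    (h : SIn X p b) {x a a' : R.V₀} (hx : R.Q₀ x = 0) (hpx : polar Q p (x : V) = 0)
    (hxa : polar R.Q₀ x a = 0) (hxa' : polar R.Q₀ x a' = 0) (hpa : polar Q p (a : V) = 0)
    (hpa' : polar Q p (a' : V) = 0) (haa : polar R.Q₀ a a' = 1) :
    SIn X p ((polar Q (x : V) b) • (x : V)) := by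
  have hm : ∀ c : R.V₀, polar R.Q₀ x c = 0 → polar Q p (c : V) = 0 →
      SIn X p ((polar Q (c : V) b - Q (c : V) * polar Q (x : V) b) • (x : V) - polar Q (x : V) b • (c : V)) := by
    intro c hxc hpc
    obtain ⟨hu, hw, hm⟩ := hX.sIn hQ h5 hx hxc
    have e1 : (sie (x : V) (c : V) hu hw : V ≃ₗ[F] V) p = p :=
      sie_fix' _ _ (by rw [polar_comm]; exact hpx) (by rw [polar_comm]; exact hpc)
    refine ((h.conj hm).congr e1 rfl |>.sub h).congr rfl ?_
    rw [sie_app]
    module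
  have hs := ((hm a hxa hpa).add (hm a' hxa' hpa')).sub
    (hm (a + a') (by rw [polar_add_right, hxa, hxa', add_zero])
      (by rw [Submodule.coe_add, polar_add_right, hpa, hpa', add_zero]))
  refine hs.congr rfl ?_
  rw [Submodule.coe_add, map_add_polar, R.one haa, polar_add_left]
  module

variable (hQ : Nondeg Q) (hn : 8 ≤ finrank F V) (hX : R.Over X) (hT : R.NoNew X)
include hQ hn hX hT

/-- A root element with rational centre has rational vector modulo the centre. -/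
theorem point {p : R.V₀} (hp0 : p ≠ 0) (hp : R.Q₀ p = 0) {b : V} (h : SIn X (p : V) b) :
    ∃ δ : F, b - δ • (p : V) ∈ R.V₀ := by
  have := R.finiteDimensional
  have hd0 : finrank F₀ R.V₀ = finrank F V := R.finrank_eq
  obtain ⟨f, -, hf, hpf, C, -, hC, hdC, hCp, hCm⟩ :=
    exists_hyp_at R.nondeg (nondeg_restr_top R.nondeg) (x := p) Submodule.mem_top hp0 hp
  rw [finrank_top] at hdC
  refine ⟨polar Q (f : V) b, R.mem_of_polar hQ ?_⟩
  set b' := b - polar Q (f : V) b • (p : V) with hb'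
  let S : Submodule F₀ R.V₀ :=
    { carrier := {v | polar Q (v : V) b' ∈ F₀}
      add_mem' := fun {x y} hx hy => by
        show polar Q ((x + y : R.V₀) : V) b' ∈ F₀
        rw [Submodule.coe_add, polar_add_left]; exact F₀.add_mem hx hy
      zero_mem' := by
        show polar Q ((0 : R.V₀) : V) b' ∈ F₀
        rw [ZeroMemClass.coe_zero, polar_zero_left]; exact F₀.zero_mem
      smul_mem' := fun a x hx => by
        show polar Q ((a • x : R.V₀) : V) b' ∈ F₀
        rw [R.coe_smul, polar_smul_left']; exact F₀.mul_mem a.2 hx }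
  suffices hS : S = ⊤ by intro v; exact (hS ▸ Submodule.mem_top : v ∈ S)
  have hpS : p ∈ S := by
    show polar Q (p : V) b' ∈ F₀
    rw [hb', polar_sub_right, polar_smul_right', polar_self', R.sing hp, h.orth]
    simp
  have hfS : f ∈ S := by
    show polar Q (f : V) b' ∈ F₀
    rw [hb', polar_sub_right, polar_smul_right', polar_comm (⇑Q) (f : V) (p : V), R.one hpf, mul_one, sub_self]
    exact F₀.zero_mem
  have hCS : C ≤ S := le_of_singular hC (by omega) S fun x hxC hx => by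
    rcases eq_or_ne x 0 with rfl | hx0
    · exact S.zero_mem
    obtain ⟨xf, hxfC, hxf, hxxf, C', hC'le, hC', hdC', hC'x, -⟩ := exists_hyp_at R.nondeg hC hxC hx0 hx
    obtain ⟨x', hx'C, z', hz'C, hx', hz', hx'z', -⟩ := exists_hyp R.nondeg hC' (by omega)
    have h5 : 5 ≤ finrank F V := by omega
    have hxp : polar R.Q₀ x p = 0 := by rw [polar_comm]; exact (hCp x hxC).1
    have h1 := hX.sIn hQ h5 hx (hC'x x' hx'C).1
    have h2 := hX.sIn hQ h5 hz' (show polar R.Q₀ z' x = 0 by rw [polar_comm]; exact (hC'x z' hz'C).1)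
    have hs := h.step h1 h2 (R.sing hx) (R.sing hx') (R.orth (hCp x hxC).1)
      (R.orth (hCp x' (hC'le hx'C)).1) (R.orth (hCp z' (hC'le hz'C)).1)
    rw [polar_comm (⇑Q) (z' : V) (x' : V), R.one hx'z', mul_one] at hs
    have hmem := hT _ p x hp0 hp hx (hCp x hxC).1
      (not_mem_line (by rw [polar_comm]; exact (hCp xf hxfC).1) (by rw [polar_comm]; exact hxxf)) hs
    show polar Q (x : V) b' ∈ F₀
    rwa [hb', polar_sub_right, polar_smul_right', R.orth hxp, mul_zero, sub_zero]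
  refine eq_top_iff.2 fun v _ => ?_
  have hv : v - polar R.Q₀ f v • p - polar R.Q₀ p v • f ∈ C := hCm _ Submodule.mem_top
    (by simp only [polar_sub_right, polar_smul_right', polar_self', hp, hpf]; ring)
    (by simp only [polar_sub_right, polar_smul_right', polar_self', hf, polar_comm (⇑R.Q₀) f p, hpf]; ring)
  have := S.add_mem (S.add_mem (hCS hv) (S.smul_mem (polar R.Q₀ p v) hfS)) (S.smul_mem (polar R.Q₀ f v) hpS)
  convert this using 1
  abel

/-- An image of a rational singular vector orthogonal to a rational nondegenerate space is a rational point. -/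
theorem rational_point {g : O Q} (hg : g ∈ X) {y : R.V₀} (hy0 : y ≠ 0) (hy : R.Q₀ y = 0)
    {C : Submodule F₀ R.V₀} (hC : Nondeg (restr R.Q₀ C)) (hd : 3 ≤ finrank F₀ C)
    (horth : ∀ c ∈ C, polar Q (c : V) ((g : V ≃ₗ[F] V) y) = 0) :
    ∃ a : F, a ≠ 0 ∧ a • (g : V ≃ₗ[F] V) y ∈ R.V₀ := by
  have := R.finiteDimensional
  have h5 : 5 ≤ finrank F V := by omega
  obtain ⟨x, hxC, z, hzC, hx, hz, hxz, hx0, C', hC'le, hC', hdC', hC'x⟩ := exists_hyp R.nondeg hC (by omega)
  obtain ⟨a₀, ha₀, b₀, hb₀, hab₀⟩ : ∃ a₀ ∈ C', ∃ b₀ ∈ C', polar R.Q₀ a₀ b₀ = 1 := by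
    obtain ⟨⟨a₀, ha₀⟩, ha0⟩ := (Module.finrank_pos_iff_exists_ne_zero (R := F₀) (M := C')).1 (by omega)
    obtain ⟨b₀, hb₀⟩ := hC'.exists_polar_eq ha0 1
    rw [polar_restr] at hb₀
    exact ⟨a₀, ha₀, b₀, b₀.2, hb₀⟩
  set p := (g : V ≃ₗ[F] V) y with hp
  obtain ⟨w, hyw, hw⟩ : ∃ w : R.V₀, polar R.Q₀ y w = 0 ∧ polar Q (x : V) ((g : V ≃ₗ[F] V) w) ≠ 0 := by
    by_contra hc
    push Not at hc
    obtain ⟨f, -, hyf⟩ := R.nondeg.exists_partner hy0 hy
    set φ := polar Q (x : V) ((g : V ≃ₗ[F] V) f)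
    have hφ : (x : V) - φ • p = 0 := by
      have hz0 : ∀ v : R.V₀, polar Q (((g⁻¹ : O Q) : V ≃ₗ[F] V) ((x : V) - φ • p)) (v : V) = 0 := fun v => by
        rw [← O.polar_app g, ← mul_app, ← Subgroup.coe_mul, mul_inv_cancel, OneMemClass.coe_one, one_app,
          polar_sub_left, polar_smul_left', hp, O.polar_app]
        have hwv := hc (v - polar R.Q₀ y v • f)
          (by rw [polar_sub_right, polar_smul_right', hyf, mul_one, sub_self])
        rw [Submodule.coe_sub, R.coe_smul, map_sub, map_smul, polar_sub_right, polar_smul_right', R.polar_coe]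
          at hwv
        linear_combination hwv
      have h0 := R.eq_zero_of_orth hQ hz0
      simpa using congrArg (g : V ≃ₗ[F] V) h0
    have := congrArg (polar Q (z : V)) hφ
    rw [polar_sub_right, polar_smul_right', horth z hzC, polar_zero_right, polar_comm, R.one hxz] at this
    simp at this
  have hb : SIn X p ((g : V ≃ₗ[F] V) w) := (hX.sIn hQ h5 hy hyw).conj hg
  have hpC : ∀ c ∈ C, polar Q p (c : V) = 0 := fun c hc => by rw [polar_comm]; exact horth c hc
  have hs := sIn_defect hQ h5 hX hb hx (hpC x hxC) (hC'x a₀ ha₀).1 (hC'x b₀ hb₀).1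
    (hpC a₀ (hC'le ha₀)) (hpC b₀ (hC'le hb₀)) hab₀
  set α := polar Q (x : V) ((g : V ≃ₗ[F] V) w)
  obtain ⟨δ, hδ⟩ := point hQ hn hX hT hx0 hx (hs.swap (R.sing hx) (hpC x hxC))
  refine ⟨α, hw, ?_⟩
  have hδ' : δ ∈ F₀ := by
    have := R.polar_mem z ⟨_, hδ⟩
    rw [polar_sub_right, polar_smul_right', polar_smul_right', horth z hzC, polar_comm (⇑Q) (z : V) (x : V),
      R.one hxz, mul_zero, zero_sub, mul_one] at this
    simpa using F₀.neg_mem this
  have := R.V₀.neg_mem (R.V₀.add_mem hδ (R.V₀.smul_mem (⟨δ, hδ'⟩ : F₀) x.2))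
  convert this using 1
  rw [Subfield.smul_def, sub_add_cancel, ← neg_smul, neg_neg]

/-- From one rational point to the points orthogonal to it. -/
theorem rational_point_spread {g : O Q} (hg : g ∈ X) {y w : R.V₀} (hy0 : y ≠ 0) (hy : R.Q₀ y = 0)
    (hw0 : w ≠ 0) (hw : R.Q₀ w = 0) (hyw : polar R.Q₀ y w = 0) {a : F} (ha : a ≠ 0)
    (hay : a • (g : V ≃ₗ[F] V) y ∈ R.V₀) : ∃ c : F, c ≠ 0 ∧ c • (g : V ≃ₗ[F] V) w ∈ R.V₀ := by
  have := R.finiteDimensional
  have hd0 : finrank F₀ R.V₀ = finrank F V := R.finrank_eq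
  set y' : R.V₀ := ⟨_, hay⟩ with hy'
  have hy'0 : y' ≠ 0 := fun h => by
    have := congrArg Subtype.val h
    rw [hy', ZeroMemClass.coe_zero] at this
    exact hy0 (Subtype.ext (by simpa [ha] using this))
  have hy's : R.Q₀ y' = 0 := by
    refine Subtype.ext ?_
    rw [R.coe, hy']
    simp [qmap_smul, O.map_app, R.sing hy]
  have hb : SIn X (y' : V) (a⁻¹ • (g : V ≃ₗ[F] V) w) :=
    ((hX.sIn hQ (by omega) hy hyw).conj hg).of_smul ha
  obtain ⟨δ, hδ⟩ := point hQ hn hX hT hy'0 hy's hb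
  set v : R.V₀ := ⟨_, hδ⟩ with hv
  have hy'w : polar Q (y' : V) ((g : V ≃ₗ[F] V) w) = 0 := by
    rw [hy', polar_smul_left', O.polar_app, R.orth hyw, mul_zero]
  obtain ⟨f, -, hf, hy'f, C, -, hC, hdC, hCy, hCm⟩ :=
    exists_hyp_at R.nondeg (nondeg_restr_top R.nondeg) (x := y') Submodule.mem_top hy'0 hy's
  rw [finrank_top] at hdC
  have hy'v : polar R.Q₀ y' v = 0 := by
    refine Subtype.ext ?_
    rw [R.polar_coe, ZeroMemClass.coe_zero, hv, polar_sub_right, polar_smul_right', polar_smul_right', hy'w,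
      polar_self', R.sing hy's]
    ring
  have hvs : R.Q₀ v = 0 := by
    refine Subtype.ext ?_
    rw [R.coe, ZeroMemClass.coe_zero, hv, qmap_sub, qmap_smul, qmap_smul, polar_smul_right', polar_smul_left',
      O.map_app, R.sing hw, R.sing hy's, polar_comm, hy'w]
    ring
  set v' := v - polar R.Q₀ f v • y' with hv'
  have hv'C : v' ∈ C := hCm _ Submodule.mem_top
    (by simp only [hv', polar_sub_right, polar_smul_right', polar_self', hy's, hy'v]; ring)
    (by simp only [hv', polar_sub_right, polar_smul_right', polar_comm (⇑R.Q₀) f y', hy'f]; ring)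
  have hgw : a⁻¹ • (g : V ≃ₗ[F] V) w = (v' : V) + ((polar R.Q₀ f v : F₀) + δ) • (y' : V) := by
    rw [hv', Submodule.coe_sub, R.coe_smul, hv]
    module
  rcases eq_or_ne v' 0 with h0 | h0
  · rw [h0, ZeroMemClass.coe_zero, zero_add] at hgw
    have hne : ((polar R.Q₀ f v : F₀) : F) + δ ≠ 0 := fun h1 => by
      rw [h1, zero_smul] at hgw
      exact hw0 (Subtype.ext (by simpa [ha] using hgw))
    refine ⟨(((polar R.Q₀ f v : F₀) : F) + δ)⁻¹ * a⁻¹, by simp [ha, hne], ?_⟩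
    rw [mul_smul, hgw, inv_smul_smul₀ hne]
    exact y'.2
  have hv's : R.Q₀ v' = 0 := by
    rw [hv', qmap_sub, qmap_smul, polar_smul_right', hvs, hy's, polar_comm (⇑R.Q₀) v y', hy'v]; ring
  obtain ⟨e, -, he, hve, C', hC'le, hC', hdC', hC'v, -⟩ := exists_hyp_at R.nondeg hC hv'C h0 hv's
  refine rational_point hQ hn hX hT hg hw0 hw hC' (by omega) fun c hc => ?_
  have : polar Q (c : V) (a⁻¹ • (g : V ≃ₗ[F] V) w) = 0 := by
    rw [hgw, polar_add_right, polar_smul_right', polar_comm (⇑Q) (c : V) (v' : V), R.orth (hC'v c hc).1,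
      polar_comm (⇑Q) (c : V) (y' : V), R.orth (hCy c (hC'le hc)).1, mul_zero, add_zero]
  rw [polar_smul_right'] at this
  exact (mul_eq_zero.1 this).resolve_left (inv_ne_zero ha)

/-- A rational point at a rational point gives the rational structure. -/
theorem stab_of_point {g : O Q} (hg : g ∈ X) {y : R.V₀} (hy0 : y ≠ 0) (hy : R.Q₀ y = 0) {a : F} (ha : a ≠ 0)
    (hay : a • (g : V ≃ₗ[F] V) y ∈ R.V₀) : R.Stab g := by
  have := R.finiteDimensional
  have hd0 : finrank F₀ R.V₀ = finrank F V := R.finrank_eq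
  have hall : ∀ u : R.V₀, u ≠ 0 → R.Q₀ u = 0 → ∃ c : F, c ≠ 0 ∧ c • (g : V ≃ₗ[F] V) u ∈ R.V₀ := by
    intro u hu0 hu
    by_cases hyu : polar R.Q₀ y u = 0
    · exact rational_point_spread hQ hn hX hT hg hy0 hy hu0 hu hyu ha hay
    set u' := (polar R.Q₀ y u)⁻¹ • u with hu'
    have hu's : R.Q₀ u' = 0 := by rw [hu', qmap_smul, hu, mul_zero]
    have hyu' : polar R.Q₀ y u' = 1 := by rw [hu', polar_smul_right', inv_mul_cancel₀ hyu]
    have h1 := R.nondeg.finrank_hyperbolic_perp hy hu's hyu'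
    obtain ⟨⟨w, hwp⟩, hw0, hw⟩ := (R.nondeg.nondeg_hyperbolic_perp hy hu's hyu').exists_singular (by omega)
    rw [restr_apply] at hw
    have hw0' : w ≠ 0 := fun h => hw0 (Subtype.ext h)
    obtain ⟨hyw, hu'w⟩ := (mem_perp_span_pair R.Q₀).1 hwp
    rw [hu', polar_smul_left'] at hu'w
    obtain ⟨c, hc, hcw⟩ := rational_point_spread hQ hn hX hT hg hy0 hy hw0' hw hyw ha hay
    refine rational_point_spread hQ hn hX hT hg hw0' hw hu0 hu ?_ hc hcw
    rw [polar_comm]
    exact (mul_eq_zero.1 hu'w).resolve_left (inv_ne_zero hyu)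
  have hpair : ∀ u v : R.V₀, polar R.Q₀ u v ≠ 0 → ∀ c d : F, c • (g : V ≃ₗ[F] V) u ∈ R.V₀ →
      d • (g : V ≃ₗ[F] V) v ∈ R.V₀ → c * d ∈ F₀ := by
    intro u v huv c d hc hd'
    have h1 := R.polar_mem ⟨_, hc⟩ ⟨_, hd'⟩
    rw [polar_smul_left', polar_smul_right', O.polar_app, ← mul_assoc] at h1
    have h0 : polar Q (u : V) (v : V) ≠ 0 := fun h => huv (Subtype.ext (by rw [R.polar_coe, h]; rfl))
    simpa [h0] using F₀.div_mem h1 (R.polar_mem u v)
  let S : Submodule F₀ R.V₀ :=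
    { carrier := {v | a • (g : V ≃ₗ[F] V) v ∈ R.V₀}
      add_mem' := fun {x z} hx hz => by
        show a • (g : V ≃ₗ[F] V) ((x + z : R.V₀) : V) ∈ R.V₀
        rw [Submodule.coe_add, map_add, smul_add]; exact R.V₀.add_mem hx hz
      zero_mem' := by
        show a • (g : V ≃ₗ[F] V) ((0 : R.V₀) : V) ∈ R.V₀
        rw [ZeroMemClass.coe_zero, map_zero, smul_zero]; exact R.V₀.zero_mem
      smul_mem' := fun s x hx => by
        show a • (g : V ≃ₗ[F] V) ((s • x : R.V₀) : V) ∈ R.V₀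
        rw [R.coe_smul, map_smul, smul_comm]; exact R.V₀.smul_mem s hx }
  have hS : S = ⊤ := by
    refine span_singular R.nondeg (by omega) S fun u hu => ?_
    rcases eq_or_ne u 0 with rfl | hu0
    · exact S.zero_mem
    obtain ⟨c, hc, hcu⟩ := hall u hu0 hu
    obtain ⟨w, hw, hyw, huw⟩ := exists_common_partner R.nondeg (by omega) hy0 hu0 hy hu
    have hw0 : w ≠ 0 := fun h => hyw (by rw [h, polar_zero_right])
    obtain ⟨d, hd', hdw⟩ := hall w hw0 hw
    have hs : a / c ∈ F₀ := by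
      have := F₀.div_mem (hpair y w hyw a d hay hdw) (hpair u w huw c d hcu hdw)
      rwa [mul_div_mul_right _ _ hd'] at this
    have := R.V₀.smul_mem (⟨_, hs⟩ : F₀) hcu
    show a • (g : V ≃ₗ[F] V) u ∈ R.V₀
    rwa [Subfield.smul_def, smul_smul, div_mul_cancel₀ _ hc] at this
  refine ⟨a⁻¹, inv_ne_zero ha, fun v hv => ?_⟩
  rw [inv_inv]
  exact (hS ▸ Submodule.mem_top : (⟨v, hv⟩ : R.V₀) ∈ S)


/-- The criterion for preserving the rational structure up to a scalar. -/
theorem stab_of_perp {g : O Q} (hg : g ∈ X) {y : R.V₀} (hy0 : y ≠ 0) (hy : R.Q₀ y = 0)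
    {C : Submodule F₀ R.V₀} (hC : Nondeg (restr R.Q₀ C)) (hd : 3 ≤ finrank F₀ C)
    (horth : ∀ c ∈ C, polar Q (c : V) ((g : V ≃ₗ[F] V) y) = 0) : R.Stab g := by
  obtain ⟨a, ha, hay⟩ := rational_point hQ hn hX hT hg hy0 hy hC hd horth
  exact stab_of_point hQ hn hX hT hg hy0 hy ha hay

/-- An image of a rational singular vector orthogonal to a rational totally singular space of dimension three and
to two rational vectors outside its radical is a rational point. -/
theorem rational_point_three {g : O Q} (hg : g ∈ X) {y : R.V₀} (hy0 : y ≠ 0) (hy : R.Q₀ y = 0)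
    {W : Submodule F₀ R.V₀} (hW : TotSing R.Q₀ W) (hd : 3 ≤ finrank F₀ W) {a₀ b₀ : R.V₀}
    (ha₀ : a₀ ∈ perp R.Q₀ W) (hb₀ : b₀ ∈ perp R.Q₀ W) (hab₀ : polar R.Q₀ a₀ b₀ = 1)
    (horth : ∀ c ∈ W, polar Q (c : V) ((g : V ≃ₗ[F] V) y) = 0)
    (ha : polar Q (a₀ : V) ((g : V ≃ₗ[F] V) y) = 0) (hb' : polar Q (b₀ : V) ((g : V ≃ₗ[F] V) y) = 0) :
    ∃ a : F, a ≠ 0 ∧ a • (g : V ≃ₗ[F] V) y ∈ R.V₀ := by
  have := R.finiteDimensional
  have h5 : 5 ≤ finrank F V := by omega
  set p := (g : V ≃ₗ[F] V) y with hp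
  have hp0 : p ≠ 0 := fun h => hy0 (Subtype.ext ((g : V ≃ₗ[F] V).map_eq_zero_iff.1 h))
  by_contra hno
  push Not at hno
  have key : ∀ x ∈ W, x ≠ 0 → ∃ (c d : F) (v : R.V₀), c ≠ 0 ∧ p = c • (v : V) + d • (x : V) := by
    intro x hxW hx0
    have hxp : polar Q p (x : V) = 0 := by rw [polar_comm]; exact horth x hxW
    obtain ⟨w, hyw, hw⟩ : ∃ w : R.V₀, polar R.Q₀ y w = 0 ∧ polar Q (x : V) ((g : V ≃ₗ[F] V) w) ≠ 0 := by
      by_contra hc
      push Not at hc
      obtain ⟨f, -, hyf⟩ := R.nondeg.exists_partner hy0 hy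
      set φ := polar Q (x : V) ((g : V ≃ₗ[F] V) f)
      have hφ : (x : V) - φ • p = 0 := by
        have hz0 : ∀ v : R.V₀, polar Q (((g⁻¹ : O Q) : V ≃ₗ[F] V) ((x : V) - φ • p)) (v : V) = 0 := fun v => by
          rw [← O.polar_app g, ← mul_app, ← Subgroup.coe_mul, mul_inv_cancel, OneMemClass.coe_one, one_app,
            polar_sub_left, polar_smul_left', hp, O.polar_app]
          have hwv := hc (v - polar R.Q₀ y v • f)
            (by rw [polar_sub_right, polar_smul_right', hyf, mul_one, sub_self])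
          rw [Submodule.coe_sub, R.coe_smul, map_sub, map_smul, polar_sub_right, polar_smul_right', R.polar_coe]
            at hwv
          linear_combination hwv
        have h0 := R.eq_zero_of_orth hQ hz0
        simpa using congrArg (g : V ≃ₗ[F] V) h0
      rw [sub_eq_zero] at hφ
      refine hno φ (fun h0 => hx0 (Subtype.ext ?_)) (hφ ▸ x.2)
      rw [hφ, h0, zero_smul]; rfl
    have hb : SIn X p ((g : V ≃ₗ[F] V) w) := (hX.sIn hQ h5 hy hyw).conj hg
    have hs := sIn_defect hQ h5 hX hb (hW x hxW) hxp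
      (by exact ha₀ x hxW) (by exact hb₀ x hxW) (by rw [polar_comm]; exact ha) (by rw [polar_comm]; exact hb') hab₀
    obtain ⟨δ, hδ⟩ := point hQ hn hX hT hx0 (hW x hxW) (hs.swap (R.sing (hW x hxW)) hxp)
    refine ⟨-(polar Q (x : V) ((g : V ≃ₗ[F] V) w))⁻¹, -(polar Q (x : V) ((g : V ≃ₗ[F] V) w))⁻¹ * δ, ⟨_, hδ⟩,
      neg_ne_zero.2 (inv_ne_zero hw), ?_⟩
    rw [← smul_smul, ← smul_add, sub_add_cancel, smul_smul, neg_mul_neg, inv_mul_cancel₀ hw, one_smul]
  obtain ⟨x₁, hx₁, hx₁0⟩ := Submodule.exists_mem_ne_zero_of_ne_bot (p := W) fun h => by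
    rw [h, finrank_bot] at hd; omega
  obtain ⟨c₁, d₁, v, hc₁, hp₁⟩ := key x₁ hx₁ hx₁0
  obtain ⟨x₂, hx₂, hx₂n⟩ := SetLike.not_le_iff_exists.1
    (show ¬ W ≤ Submodule.span F₀ {v} ⊔ Submodule.span F₀ {x₁} from fun h => by
      have h1 := (Submodule.finrank_mono h).trans (Submodule.finrank_add_le_finrank_add_finrank _ _)
      have h2 : finrank F₀ (Submodule.span F₀ {v}) ≤ 1 := (finrank_span_le_card _).trans (by simp)
      rw [finrank_span_singleton hx₁0] at h1
      omega)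
  obtain ⟨c₂, d₂, v₂, hc₂, hp₂⟩ := key x₂ hx₂ (fun h => hx₂n (h ▸ Submodule.zero_mem _))
  obtain ⟨t, ht, htx⟩ : ∃ t ∈ perp R.Q₀ (Submodule.span F₀ {v} ⊔ Submodule.span F₀ {x₁}),
      polar R.Q₀ t x₂ ≠ 0 := by
    by_contra hc
    push Not at hc
    refine hx₂n ?_
    rw [← R.nondeg.perp_perp (Submodule.span F₀ {v} ⊔ Submodule.span F₀ {x₁})]
    exact fun t ht => hc t ht
  rw [perp_sup, Submodule.mem_inf, mem_perp_span_singleton, mem_perp_span_singleton] at ht
  have htp : polar Q (t : V) p = 0 := by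
    rw [hp₁, polar_add_right, polar_smul_right', polar_smul_right', polar_comm (⇑Q) (t : V) (v : V), R.orth ht.1,
      polar_comm (⇑Q) (t : V) (x₁ : V), R.orth ht.2]
    ring
  have htx' : polar Q (t : V) (x₂ : V) ≠ 0 := fun h => htx (Subtype.ext (by rw [R.polar_coe, h]; rfl))
  rw [hp₂, polar_add_right, polar_smul_right', polar_smul_right'] at htp
  set ρ : F₀ := -(polar R.Q₀ t v₂) / polar R.Q₀ t x₂ with hρ
  have hd₂ : d₂ = c₂ * (ρ : F) := by
    rw [hρ, Subfield.coe_div, Subfield.coe_neg, R.polar_coe, R.polar_coe]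
    field_simp
    linear_combination htp
  refine hno c₂⁻¹ (inv_ne_zero hc₂) ?_
  rw [hp₂, hd₂, smul_add, smul_smul, smul_smul, ← mul_assoc, inv_mul_cancel₀ hc₂, one_smul, one_mul]
  exact R.V₀.add_mem v₂.2 (R.V₀.smul_mem ρ x₂.2)

end Cfsg.Agent.H97.OmegaEight.Sub
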