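import Cfsg.Agent.H98.SubfieldOrth.OddEig
import Cfsg.Agent.H97.OmegaEight.SubPoints
import Cfsg.Agent.H97.OmegaEight.RootOut

/-!
Odd characteristic in dimension eight, minus type, odd degree: an overgroup element not preserving the rational
structure yields a new parameter.
-/

set_option autoImplicit false

namespace Cfsg.Agent.H97.OmegaEight.Sub

open QuadraticMap Module Cfsg.Agent.Orthogonal Cfsg.Agent.H98 Cfsg.Agent.H98.SubfieldOrth
open Cfsg.Agent.H98.SubfieldOrth.RatStr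

variable {F V : Type*} [Field F] [Finite F] [AddCommGroup V] [Module F V] [FiniteDimensional F V]
  {Q : QuadraticForm F V} {F₀ : Subfield F}

omit [Finite F] in
/-- An involution of Ω negates an even-dimensional space. -/
theorem invol_even (h2 : (2 : F) ≠ 0) {s : O Q} (hs : s * s = 1) (hsc : s ∈ commutator (O Q)) :
    Even (finrank F (eig s (-1 : F))) := by
  let d : O Q →* Fˣ := LinearEquiv.det.comp (O Q).subtype
  have hd : d s = 1 := by
    have hle : commutator (O Q) ≤ d.ker := by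
      rw [commutator_def, Subgroup.commutator_le]
      intro a _ b _
      rw [MonoidHom.mem_ker, commutatorElement_def, map_mul, map_mul, map_mul, map_inv, map_inv]
      rw [mul_comm (d a), mul_inv_cancel_right, mul_inv_cancel]
    exact hle hsc
  set e := Submodule.prodEquivOfIsCompl _ _ (isCompl_eig (s := s) hs h2) with he
  have hdet : LinearMap.det (((s : V ≃ₗ[F] V) : V →ₗ[F] V)) = (-1 : F) ^ finrank F (eig s (-1 : F)) := by
    have hconj : (((s : V ≃ₗ[F] V) : V →ₗ[F] V)) = (e : _ →ₗ[F] V) ∘ₗ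
        ((LinearMap.id : eig s (1 : F) →ₗ[F] eig s (1 : F)).prodMap
          ((-1 : F) • (LinearMap.id : eig s (-1 : F) →ₗ[F] eig s (-1 : F)))) ∘ₗ (e.symm : V →ₗ[F] _) := by
      refine LinearMap.ext fun v => ?_
      obtain ⟨⟨a, b⟩, rfl⟩ := e.surjective v
      simp only [LinearMap.comp_apply, LinearEquiv.coe_coe, LinearEquiv.symm_apply_apply]
      rw [he, Submodule.coe_prodEquivOfIsCompl']
      simp [mem_eig.1 a.2, mem_eig.1 b.2]
    rw [hconj, LinearMap.det_conj, LinearMap.det_prodMap, LinearMap.det_id, LinearMap.det_smul, LinearMap.det_id,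
      one_mul, mul_one]
  have h1 : LinearMap.det (((s : V ≃ₗ[F] V) : V →ₗ[F] V)) = 1 := by
    have := congrArg Units.val hd
    simpa [d] using this
  by_contra hodd
  rw [hdet, (Nat.not_even_iff_odd.1 hodd).neg_one_pow] at h1
  exact h2 (by linear_combination -h1)

omit [Finite F] [FiniteDimensional F V] in
theorem commute_rO {s : O Q} {v : V} {ε : F} (hε : ε = 1 ∨ ε = -1) (h : (s : V ≃ₗ[F] V) v = ε • v) :
    Commute s (rO Q v) := by
  show s * rO Q v = rO Q v * s
  rw [← mul_inv_eq_iff_eq_mul, conj_rO, h, rO_smul (by rcases hε with rfl | rfl <;> simp)]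

omit [Finite F] in
/-- An involution negating an orthogonal family and fixing its orthogonal negates exactly its span. -/
theorem finrank_eig_family (hQ : Nondeg Q) (h2 : (2 : F) ≠ 0) {s : O Q} (hs : s * s = 1) {k : ℕ} (f : Fin k → V)
    (hne : ∀ i, Q (f i) ≠ 0) (horth : ∀ i j, i ≠ j → polar Q (f i) (f j) = 0)
    (hneg : ∀ i, (s : V ≃ₗ[F] V) (f i) = -f i)
    (hfix : ∀ v, (∀ i, polar Q (f i) v = 0) → (s : V ≃ₗ[F] V) v = v) :
    finrank F (eig s (-1 : F)) = k := by
  have hli : LinearIndependent F f := Fintype.linearIndependent_iff.2 fun c hc i => by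
    have h := congrArg (Q.polarBilin (f i)) hc
    rw [map_sum, map_zero, Finset.sum_eq_single i (fun j _ hj => by
      rw [map_smul, polarBilin_apply', horth i j (Ne.symm hj), smul_zero]) (by simp), map_smul, polarBilin_apply',
      polar_self', smul_eq_mul] at h
    exact (mul_eq_zero.1 h).resolve_right (mul_ne_zero h2 (hne i))
  have hspan := finrank_span_eq_card hli
  rw [Fintype.card_fin] at hspan
  have h1 : Submodule.span F (Set.range f) ≤ eig s (-1 : F) := Submodule.span_le.2 (by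
    rintro _ ⟨i, rfl⟩; exact mem_eig.2 (by rw [hneg, neg_one_smul]))
  have h3 : perp Q (Submodule.span F (Set.range f)) ≤ eig s (1 : F) := fun v hv => mem_eig.2 (by
    rw [one_smul]; exact hfix v fun i => hv _ (Submodule.subset_span ⟨i, rfl⟩))
  have h4 := Submodule.finrank_mono h1
  have h5 := Submodule.finrank_mono h3
  have h6 := finrank_eig_add h2 hs
  have h7 := hQ.finrank_add_perp (Submodule.span F (Set.range f))
  omega

omit [Finite F] in
/-- A totally singular plane in the negated space and one in the fixed space give one of dimension four. -/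
theorem no_two_planes (h2 : (2 : F) ≠ 0) (hhalf : ∀ T : Submodule F V, TotSing Q T → finrank F T ≠ 4) {t : O Q}
    (h : HasSingularPlane Q (eig t (-1 : F))) (h' : HasSingularPlane Q (eig t (1 : F))) : False := by
  obtain ⟨e, he, f, hf, hQe, hQf, hef, he0, hfe⟩ := h
  obtain ⟨e', he', f', hf', hQe', hQf', hef', he'0, hfe'⟩ := h'
  have hspan : ∀ {e f : V}, Q e = 0 → Q f = 0 → polar Q e f = 0 → e ≠ 0 → f ∉ Submodule.span F {e} →
      TotSing Q (Submodule.span F {e} ⊔ Submodule.span F {f}) ∧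
        finrank F ↥(Submodule.span F {e} ⊔ Submodule.span F {f}) = 2 := by
    intro e f h1 h2 h3 h4 h5
    refine ⟨fun x hx => ?_, ?_⟩
    · obtain ⟨p, hp, r, hr, rfl⟩ := Submodule.mem_sup.1 hx
      obtain ⟨c, rfl⟩ := Submodule.mem_span_singleton.1 hp
      obtain ⟨d, rfl⟩ := Submodule.mem_span_singleton.1 hr
      rw [map_add_polar, qmap_smul, qmap_smul, polar_smul_left', polar_smul_right', h1, h2, h3]
      ring
    · rw [Submodule.finrank_sup_span_singleton h5, finrank_span_singleton h4]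
  obtain ⟨hA, hAd⟩ := hspan hQe hQf hef he0 hfe
  obtain ⟨hB, hBd⟩ := hspan hQe' hQf' hef' he'0 hfe'
  set A := Submodule.span F {e} ⊔ Submodule.span F {f}
  set B := Submodule.span F {e'} ⊔ Submodule.span F {f'}
  have hAle : A ≤ eig t (-1 : F) := sup_le (by simpa using he) (by simpa using hf)
  have hBle : B ≤ eig t (1 : F) := sup_le (by simpa using he') (by simpa using hf')
  refine hhalf (A ⊔ B) (fun x hx => ?_) ?_
  · obtain ⟨a, ha, b, hb, rfl⟩ := Submodule.mem_sup.1 hx
    rw [map_add_polar, hA a ha, hB b hb, polar_comm, eig_orth h2 (Or.inl rfl) (hBle hb) (hAle ha)]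
    ring
  · have hinf : A ⊓ B = ⊥ := (Submodule.eq_bot_iff _).2 fun x hx => by
      have h1 := (mem_eig.1 (hAle hx.1)).symm.trans (mem_eig.1 (hBle hx.2))
      rw [one_smul, neg_smul, one_smul, neg_eq_iff_add_eq_zero, ← two_smul F, smul_eq_zero] at h1
      exact h1.resolve_left h2
    have := Submodule.finrank_sup_add_finrank_inf_eq A B
    rw [hinf, finrank_bot] at this
    omega

omit [Finite F] [FiniteDimensional F V] in
theorem HasSingularPlane.map {U : Submodule F V} (h : HasSingularPlane Q U) (k : O Q) :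
    HasSingularPlane Q (U.map ((k : V ≃ₗ[F] V) : V →ₗ[F] V)) := by
  obtain ⟨e, he, f, hf, hQe, hQf, hef, he0, hfe⟩ := h
  refine ⟨_, ⟨e, he, rfl⟩, _, ⟨f, hf, rfl⟩, ?_, ?_, ?_, ?_, fun hm => hfe ?_⟩
  · rw [LinearEquiv.coe_coe, O.map_app, hQe]
  · rw [LinearEquiv.coe_coe, O.map_app, hQf]
  · rw [LinearEquiv.coe_coe, O.polar_app, hef]
  · exact fun h0 => he0 ((k : V ≃ₗ[F] V).map_eq_zero_iff.1 h0)
  · obtain ⟨c, hc⟩ := Submodule.mem_span_singleton.1 hm
    rw [LinearEquiv.coe_coe, ← map_smul, (k : V ≃ₗ[F] V).injective.eq_iff] at hc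
    exact Submodule.mem_span_singleton.2 ⟨c, hc⟩

variable {R : RatStr Q F₀}

/-- A vector of given norm in a rational subspace, with the nondegenerate rest. -/
theorem take_vec (h2 : (2 : F) ≠ 0) {D : Submodule F₀ R.V₀} (hD : Nondeg (restr R.Q₀ D)) (hd : 2 ≤ finrank F₀ D)
    {c : F₀} (hc : c ≠ 0) :
    ∃ a ∈ D, R.Q₀ a = c ∧ ∃ D' ≤ D, Nondeg (restr R.Q₀ D') ∧ finrank F₀ D' + 1 = finrank F₀ D ∧
      ∀ v ∈ D', polar R.Q₀ a v = 0 := by
  have := R.finiteDimensional
  obtain ⟨⟨a, haD⟩, ha⟩ := hD.exists_value hd c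
  change R.Q₀ a = c at ha
  have ha0 : a ≠ 0 := fun h => hc (by rw [← ha, h, QuadraticMap.map_zero])
  have hP : Nondeg (restr R.Q₀ (Submodule.span F₀ {a})) := by
    rw [nondeg_restr_iff]
    refine eq_bot_iff.2 fun x hx => (Submodule.mem_bot _).2 ?_
    obtain ⟨s, rfl⟩ := Submodule.mem_span_singleton.1 hx.1
    have h := (mem_perp_span_singleton R.Q₀).1 hx.2
    rw [polar_smul_right', polar_self', ha] at h
    have h20 : (2 : F₀) ≠ 0 := fun e => h2 (congrArg Subtype.val e)
    rw [(mul_eq_zero.1 h).resolve_right (mul_ne_zero h20 hc), zero_smul]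
  obtain ⟨hD', -, hdD'⟩ := R.nondeg.nondeg_inf_perp hD hP (by rwa [Submodule.span_singleton_le_iff_mem])
  rw [finrank_span_singleton ha0] at hdD'
  exact ⟨a, haD, ha, _, inf_le_left, hD', hdD', fun v hv => (mem_perp_span_singleton R.Q₀).1 hv.2⟩

/-- The involution negating two orthogonal pairs of rational vectors, each pair of constant norm. -/
theorem exists_split (hQ : Nondeg Q) (h2 : (2 : F) ≠ 0) {a a' b b' : R.V₀} {c d : F₀} (hc : c ≠ 0) (hd : d ≠ 0)
    (ha : R.Q₀ a = c) (ha' : R.Q₀ a' = c) (hb : R.Q₀ b = d) (hb' : R.Q₀ b' = d)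
    (h1 : polar R.Q₀ a a' = 0) (h3 : polar R.Q₀ a b = 0) (h4 : polar R.Q₀ a b' = 0) (h5 : polar R.Q₀ a' b = 0)
    (h6 : polar R.Q₀ a' b' = 0) (h7 : polar R.Q₀ b b' = 0) :
    ∃ s : O Q, s ∈ commutator (O Q) ∧ R.RatEl s ∧ s * s = 1 ∧ finrank F (eig s (-1 : F)) = 4 ∧
      HasSingularPlane Q (eig s (-1 : F)) ∧ (s : V ≃ₗ[F] V) a = -(a : V) ∧ (s : V ≃ₗ[F] V) b = -(b : V) ∧
      ∀ v : V, polar Q (a : V) v = 0 → polar Q (a' : V) v = 0 → polar Q (b : V) v = 0 → polar Q (b' : V) v = 0 →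
        (s : V ≃ₗ[F] V) v = v := by
  have hne : ∀ {x : R.V₀} {e : F₀}, R.Q₀ x = e → e ≠ 0 → Q (x : V) ≠ 0 := fun hx he h0 => by
    rw [← R.coe, hx] at h0
    exact he (Subtype.ext h0)
  have hA := hne ha hc; have hA' := hne ha' hc; have hB := hne hb hd; have hB' := hne hb' hd
  have sw : ∀ {x y : R.V₀}, polar R.Q₀ x y = 0 → polar Q (y : V) (x : V) = 0 := fun h => by
    rw [polar_comm]; exact R.orth h
  have hcomm : ∀ {x y : R.V₀}, polar R.Q₀ x y = 0 → Commute (rO Q (x : V)) (rO Q (y : V)) := fun h =>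
    commute_rO (Or.inl rfl) (by rw [rO_fix (R.orth h), one_smul])
  set s := rO Q (a : V) * rO Q (a' : V) * (rO Q (b : V) * rO Q (b' : V)) with hs
  have happ : ∀ v, (s : V ≃ₗ[F] V) v = (rO Q (a : V) : V ≃ₗ[F] V) ((rO Q (a' : V) : V ≃ₗ[F] V)
      ((rO Q (b : V) : V ≃ₗ[F] V) ((rO Q (b' : V) : V ≃ₗ[F] V) v))) := fun v => rfl
  have hfix : ∀ v : V, polar Q (a : V) v = 0 → polar Q (a' : V) v = 0 → polar Q (b : V) v = 0 →
      polar Q (b' : V) v = 0 → (s : V ≃ₗ[F] V) v = v := fun v e1 e2 e3 e4 => by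
    rw [happ, rO_fix e4, rO_fix e3, rO_fix e2, rO_fix e1]
  have na : (s : V ≃ₗ[F] V) a = -(a : V) := by
    rw [happ, rO_fix (sw h4), rO_fix (sw h3), rO_fix (sw h1), rO_self hA]
  have na' : (s : V ≃ₗ[F] V) a' = -(a' : V) := by
    rw [happ, rO_fix (sw h6), rO_fix (sw h5), rO_self hA', map_neg, rO_fix (R.orth h1)]
  have nb : (s : V ≃ₗ[F] V) b = -(b : V) := by
    rw [happ, rO_fix (sw h7), rO_self hB, map_neg, map_neg, rO_fix (R.orth h5), rO_fix (R.orth h3)]
  have nb' : (s : V ≃ₗ[F] V) b' = -(b' : V) := by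
    rw [happ, rO_self hB', map_neg, map_neg, map_neg, rO_fix (R.orth h7), rO_fix (R.orth h6), rO_fix (R.orth h4)]
  have hAA : (rO Q (a : V) * rO Q (a' : V)) * (rO Q (a : V) * rO Q (a' : V)) = 1 := by
    rw [(hcomm h1).symm.mul_mul_mul_comm, rO_mul_self, rO_mul_self, one_mul]
  have hBB : (rO Q (b : V) * rO Q (b' : V)) * (rO Q (b : V) * rO Q (b' : V)) = 1 := by
    rw [(hcomm h7).symm.mul_mul_mul_comm, rO_mul_self, rO_mul_self, one_mul]
  have hss : s * s = 1 := by
    rw [hs, (show Commute (rO Q (b : V) * rO Q (b' : V)) (rO Q (a : V) * rO Q (a' : V)) from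
      (((hcomm h3).symm.mul_left (hcomm h4).symm).mul_right
        ((hcomm h5).symm.mul_left (hcomm h6).symm))).mul_mul_mul_comm, hAA, hBB, one_mul]
  refine ⟨s, mul_mem (OrthMax.rO_mul_mem hQ hA (by rw [← R.coe, ← R.coe, ha, ha']))
      (OrthMax.rO_mul_mem hQ hB (by rw [← R.coe, ← R.coe, hb, hb'])),
    ((RatEl.rO a).mul (RatEl.rO a')).mul ((RatEl.rO b).mul (RatEl.rO b')), hss, ?_, ?_, na, nb, hfix⟩
  · refine finrank_eig_family hQ h2 hss ![(a : V), a', b, b'] ?_ ?_ ?_ fun v hv => hfix v (hv 0) (hv 1) (hv 2) (hv 3)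
    · intro i; fin_cases i <;> assumption
    · intro i j hij
      fin_cases i <;> fin_cases j <;>
        first
        | exact absurd rfl hij
        | exact R.orth h1 | exact R.orth h3 | exact R.orth h4 | exact R.orth h5 | exact R.orth h6 | exact R.orth h7
        | exact sw h1 | exact sw h3 | exact sw h4 | exact sw h5 | exact sw h6 | exact sw h7
    · intro i; fin_cases i <;> assumption
  -- a totally singular plane
  have hQa : Q (a : V) = c := by rw [← R.coe, ha]
  have hQa' : Q (a' : V) = c := by rw [← R.coe, ha']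
  have hQb : Q (b : V) = d := by rw [← R.coe, hb]
  have hQb' : Q (b' : V) = d := by rw [← R.coe, hb']
  have hcF : (c : F) ≠ 0 := fun h => hc (Subtype.ext h)
  have hdF : (d : F) ≠ 0 := fun h => hd (Subtype.ext h)
  obtain ⟨x, y, hxy⟩ := exists_sq_add_sq hcF hcF (-(d : F))
  have hm : ∀ {v : V}, (s : V ≃ₗ[F] V) v = -v → v ∈ eig s (-1 : F) := fun h => mem_eig.2 (by rw [h, neg_one_smul])
  refine ⟨x • (a : V) + y • (a' : V) + (b : V),
    add_mem (add_mem (Submodule.smul_mem _ _ (hm na)) (Submodule.smul_mem _ _ (hm na'))) (hm nb),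
    (-y) • (a : V) + x • (a' : V) + (b' : V),
    add_mem (add_mem (Submodule.smul_mem _ _ (hm na)) (Submodule.smul_mem _ _ (hm na'))) (hm nb'),
    ?_, ?_, ?_, ?_, ?_⟩
  · simp only [map_add_polar, qmap_smul, polar_add_left, polar_smul_left', polar_smul_right', hQa, hQa', hQb,
      R.orth h1, R.orth h3, R.orth h5]
    linear_combination hxy
  · simp only [map_add_polar, qmap_smul, polar_add_left, polar_smul_left', polar_smul_right', hQa, hQa', hQb',
      R.orth h1, R.orth h4, R.orth h6]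
    linear_combination hxy
  · simp only [polar_add_left, polar_add_right, polar_smul_left', polar_smul_right', polar_self', hQa, hQa',
      R.orth h1, sw h1, R.orth h4, R.orth h6, R.orth h7, sw h3, sw h5]
    ring
  · intro h
    have h' := congrArg (polar Q (b : V)) h
    simp only [polar_add_right, polar_smul_right', sw h3, sw h5, polar_self', polar_zero_right, hQb] at h'
    exact mul_ne_zero h2 hdF (by linear_combination h')
  · intro h
    obtain ⟨k, hk⟩ := Submodule.mem_span_singleton.1 h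
    have h' := congrArg (polar Q (b' : V)) hk
    simp only [polar_add_right, polar_smul_right', sw h4, sw h6, sw h7, polar_self', hQb'] at h'
    exact mul_ne_zero h2 hdF (by linear_combination -h')

omit [Finite F] in
/-- The involution negating two orthogonal rational vectors of norm one. -/
theorem exists_two (hQ : Nondeg Q) (h2 : (2 : F) ≠ 0) {a a' : R.V₀} (ha : R.Q₀ a = 1) (ha' : R.Q₀ a' = 1)
    (h1 : polar R.Q₀ a a' = 0) :
    ∃ s : O Q, s ∈ commutator (O Q) ∧ R.RatEl s ∧ s * s = 1 ∧ finrank F (eig s (-1 : F)) = 2 := by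
  have hA : Q (a : V) ≠ 0 := by rw [← R.coe, ha]; simp
  have hA' : Q (a' : V) ≠ 0 := by rw [← R.coe, ha']; simp
  have hc : Commute (rO Q (a : V)) (rO Q (a' : V)) := commute_rO (Or.inl rfl) (by rw [rO_fix (R.orth h1), one_smul])
  have h1' : polar Q (a' : V) (a : V) = 0 := by rw [polar_comm]; exact R.orth h1
  have hss : (rO Q (a : V) * rO Q (a' : V)) * (rO Q (a : V) * rO Q (a' : V)) = 1 := by
    rw [hc.symm.mul_mul_mul_comm, rO_mul_self, rO_mul_self, one_mul]
  refine ⟨_, OrthMax.rO_mul_mem hQ hA (by rw [← R.coe, ← R.coe, ha, ha']), (RatEl.rO a).mul (RatEl.rO a'), hss, ?_⟩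
  refine finrank_eig_family hQ h2 hss ![(a : V), a'] ?_ ?_ ?_ fun v hv => ?_
  · intro i; fin_cases i <;> assumption
  · intro i j hij
    fin_cases i <;> fin_cases j <;> first | exact absurd rfl hij | exact R.orth h1 | exact h1'
  · intro i
    fin_cases i
    · show ((rO Q (a : V) * rO Q (a' : V) : O Q) : V ≃ₗ[F] V) (a : V) = -(a : V)
      rw [Subgroup.coe_mul, mul_app, rO_fix h1', rO_self hA]
    · show ((rO Q (a : V) * rO Q (a' : V) : O Q) : V ≃ₗ[F] V) (a' : V) = -(a' : V)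
      rw [Subgroup.coe_mul, mul_app, rO_self hA', map_neg, rO_fix (R.orth h1)]
  · rw [Subgroup.coe_mul, mul_app, rO_fix (show polar Q (a' : V) v = 0 from hv 1), rO_fix (show polar Q (a : V) v = 0 from hv 0)]

variable {X : Subgroup (O Q)} (hQ : Nondeg Q) (h2 : (2 : F) ≠ 0) (hn : finrank F V = 8) (hX : R.Over X)
  (hT : R.NoNew X) (hsqF : ∀ c : F, c ^ 2 ∈ F₀ → c ∈ F₀)
  (hhalf : ∀ T : Submodule F V, TotSing Q T → finrank F T ≠ 4)
include hQ h2 hn hX hT hsqF hhalf

omit hQ h2 hX hT hhalf [Finite F] in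
theorem ratEl_of_stab' {a : O Q} (ha : R.Stab a) : R.RatEl a := by
  obtain ⟨c, hc, h⟩ := ha
  exact ratEl_of_stab hc (hsqF c (stab_sq (by omega) hc h)) h

omit hsqF hhalf in
/-- An element carrying a rational involution with two large eigenspaces to a rational one preserves the rational
structure. -/
theorem stab_of_invol {g s w : O Q} (hg : g ∈ X) (hsR : R.RatEl s) (hs : s * s = 1) (hwR : R.RatEl w)
    (hw : w * w = 1) (h : g * s = w * g) (hk : finrank F (eig s (-1 : F)) = 4) : R.Stab g := by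
  have := R.finiteDimensional
  have hwk := finrank_eig_of_conj h (-1 : F)
  have hws := finrank_eig_add h2 hw
  obtain ⟨⟨y, hyE⟩, hy0, hy⟩ := (nondeg_eig₀ h2 hsR hs (Or.inr rfl)).exists_singular
    (by rw [finrank_eig₀ h2 hsR hs (Or.inr rfl)]; omega)
  rw [restr_apply] at hy
  refine stab_of_perp hQ (by omega) hX hT hg (fun e => hy0 (Subtype.ext e)) hy
    (nondeg_eig₀ h2 hwR hw (Or.inl rfl)) (by rw [finrank_eig₀ h2 hwR hw (Or.inl rfl)]; omega) fun c hc => ?_
  refine eig_orth h2 (Or.inl rfl) (mem_eig.2 (R.mem_eig₀.1 hc)) (mem_eig.2 ?_)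
  rw [app_conj h, R.mem_eig₀.1 hyE, map_smul]

/-- From two involutions that are not conjugate in `H` a rational involution commuting with one of them. -/
theorem central {g : O Q} (hg : g ∈ X) (H : Subgroup (O Q)) {t r : O Q} (htX : t ∈ X) (htR : R.RatEl t)
    (htt : t * t = 1) (htk : finrank F (eig t (-1 : F)) = 4) (htP : HasSingularPlane Q (eig t (-1 : F)))
    (hrX : r ∈ X) (hrr : r * r = 1)
    (hrk : finrank F (eig r (-1 : F)) = 2 ∨ HasSingularPlane Q (eig r (-1 : F)))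
    (hcr : ∀ {h : O Q}, h ∈ X → Commute h r → R.Stab h) (htH : t ∈ H) (hrH : g * r * g⁻¹ ∈ H)
    (hne : ∀ k ∈ H, k * t * k⁻¹ ≠ g * r * g⁻¹) :
    ∃ (z' z : O Q) (j : ℕ), z = (t * (g * r * g⁻¹)) ^ j ∧ R.RatEl z' ∧ z' * z' = 1 ∧ R.RatEl z ∧ z * z = 1 ∧
      g * z' = z * g ∧ z * t * (z * t) = 1 ∧
      (finrank F (eig z (-1 : F)) = 2 ∨ finrank F (eig z (-1 : F)) = 4 ∨ finrank F (eig z (-1 : F)) = 6) ∧
      (finrank F (eig (z * t) (-1 : F)) = finrank F (eig t (-1 : F)) ∨
        finrank F (eig (z * t) (-1 : F)) = finrank F (eig r (-1 : F))) := by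
  have := R.finiteDimensional
  have hO : Finite (O Q) := finite_O
  set r' := g * r * g⁻¹ with hr'
  have hr'r' : r' * r' = 1 := by
    rw [hr', show g * r * g⁻¹ * (g * r * g⁻¹) = g * (r * r) * g⁻¹ by group, hrr, mul_one, mul_inv_cancel]
  obtain ⟨j, hzz, hz1, hzt, hzr, ⟨k, hk⟩, -⟩ := exists_central (t := (⟨t, htH⟩ : H)) (t' := ⟨r', hrH⟩)
    (Subtype.ext htt) (Subtype.ext hr'r') fun k hk => hne k k.2 (congrArg Subtype.val hk)
  set z := (t * r') ^ j with hz
  have hzX : z ∈ X := pow_mem (mul_mem htX (mul_mem (mul_mem hg hrX) (inv_mem hg))) j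
  have hzz' : z * z = 1 := congrArg Subtype.val hzz
  have hzt' : Commute z t := congrArg Subtype.val hzt.eq
  have hzr' : z * r' = r' * z := congrArg Subtype.val hzr.eq
  have hzt2 : z * t * (z * t) = 1 := by rw [hzt'.symm.mul_mul_mul_comm, hzz', htt, one_mul]
  have hzS : R.Stab z := stab_of_invol hQ h2 hn hX hT hzX htR htt htR htt hzt'.eq htk
  set z' := g⁻¹ * z * g with hz'
  have hgz : g * z' = z * g := by rw [hz']; group
  have hz'r : Commute z' r := by
    show z' * r = r * z'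
    rw [hz', show g⁻¹ * z * g * r = g⁻¹ * (z * r') * g by rw [hr']; group, hzr', hr']
    group
  have hz'S := hcr (mul_mem (mul_mem (inv_mem hg) hzX) hg) hz'r
  have hz'z' : z' * z' = 1 := by
    rw [hz', show g⁻¹ * z * g * (g⁻¹ * z * g) = g⁻¹ * (z * z) * g by group, hzz', mul_one, inv_mul_cancel]
  have hzt_eig : ∀ ε : F, ∃ x : O Q, (x = t ∨ x = r) ∧ ∃ k : O Q, eig (z * t) ε =
      (eig x ε).map ((k : V ≃ₗ[F] V) : V →ₗ[F] V) := by
    intro ε
    rcases hk with hk | hk
    · refine ⟨t, Or.inl rfl, (k : O Q), ?_⟩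
      rw [← eig_conj, show z * t = (k : O Q) * t * (k : O Q)⁻¹ from (congrArg Subtype.val hk).symm]
    · refine ⟨r, Or.inr rfl, (k : O Q) * g, ?_⟩
      rw [← eig_conj, show z * t = (k : O Q) * r' * (k : O Q)⁻¹ from (congrArg Subtype.val hk).symm, hr']
      congr 1
  have hztk : finrank F (eig (z * t) (-1 : F)) = finrank F (eig t (-1 : F)) ∨
      finrank F (eig (z * t) (-1 : F)) = finrank F (eig r (-1 : F)) := by
    obtain ⟨x, hx, k', hk'⟩ := hzt_eig (-1)
    rw [hk', LinearEquiv.finrank_map_eq]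
    rcases hx with rfl | rfl
    · exact Or.inl rfl
    · exact Or.inr rfl
  refine ⟨z', z, j, rfl, ratEl_of_stab' hn hsqF hz'S, hz'z', ratEl_of_stab' hn hsqF hzS, hzz', hgz, hzt2,
    ?_, hztk⟩
  obtain ⟨m, hm⟩ := invol_even h2 hzz' (hX.le hzX)
  have hsum := finrank_eig_add h2 hzz'
  have hne0 : finrank F (eig z (-1 : F)) ≠ 0 := fun h0 => by
    refine hz1 (Subtype.ext (O.ext_app fun v => ?_))
    have hmem : v - (z : V ≃ₗ[F] V) v ∈ eig z (-1 : F) := by
      rw [mem_eig, map_sub, invol_app hzz', neg_one_smul, neg_sub]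
    rw [Submodule.finrank_eq_zero.1 h0, Submodule.mem_bot, sub_eq_zero] at hmem
    exact hmem.symm
  have hne8 : finrank F (eig z (-1 : F)) ≠ 8 := fun h8 => by
    have hneg : eig z (-1 : F) = ⊤ := Submodule.eq_top_of_finrank_eq (by rw [h8, hn])
    have hswap : eig (z * t) (-1 : F) = eig t (1 : F) := by
      ext v
      have hv : (z : V ≃ₗ[F] V) ((t : V ≃ₗ[F] V) v) = -(t : V ≃ₗ[F] V) v := by
        rw [mem_eig.1 (hneg ▸ Submodule.mem_top), neg_one_smul]
      rw [mem_eig, mem_eig, Subgroup.coe_mul, mul_app, hv, one_smul, neg_one_smul, neg_inj]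
    obtain ⟨x, hx, k', hk'⟩ := hzt_eig (-1)
    rw [hswap] at hk'
    have hts := finrank_eig_add h2 htt
    rcases hx with rfl | rfl
    · exact no_two_planes h2 hhalf htP (hk' ▸ HasSingularPlane.map htP k')
    · rcases hrk with h | h
      · rw [hk', LinearEquiv.finrank_map_eq, h] at hts
        omega
      · exact no_two_planes h2 hhalf htP (hk' ▸ HasSingularPlane.map h k')
  omega

set_option maxHeartbeats 1000000 in
/-- An element carrying a rational involution with a negated or fixed plane to a rational one preserves the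
rational structure. -/
theorem stab_of_two_six {g s w : O Q} (hg : g ∈ X) (hsR : R.RatEl s) (hs : s * s = 1) (hwR : R.RatEl w)
    (hw : w * w = 1) (h : g * s = w * g) {η : F} (hη : η = 1 ∨ η = -1) (hk : finrank F (eig s η) = 2) :
    R.Stab g := by
  have := R.finiteDimensional
  have hη' : -η = 1 ∨ -η = -1 := by rcases hη with rfl | rfl <;> simp
  have hsum : ∀ {x : O Q}, x * x = 1 → ∀ {ζ : F}, ζ = 1 ∨ ζ = -1 →
      finrank F (eig x ζ) + finrank F (eig x (-ζ)) = 8 := by
    intro x hx ζ hζ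
    have := finrank_eig_add h2 hx
    rcases hζ with rfl | rfl
    · omega
    · rw [neg_neg]; omega
  have hwk : finrank F (eig w η) = 2 := by rw [← finrank_eig_of_conj h, hk]
  have hwk' := hsum hw hη
  have hsk' := hsum hs hη
  have horth : ∀ {x : O Q} {p q : R.V₀}, p ∈ R.eig₀ x η → q ∈ R.eig₀ x (-η) → polar R.Q₀ p q = 0 :=
    fun hp hq => Subtype.ext (by
      rw [R.polar_coe, ZeroMemClass.coe_zero]
      exact eig_orth h2 hη (mem_eig.2 (R.mem_eig₀.1 hp)) (mem_eig.2 (R.mem_eig₀.1 hq)))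
  -- an involution inside the six-space of the target
  obtain ⟨a₁, ha₁, qa₁, D₁, hD₁, hD₁n, hD₁d, ho₁⟩ := take_vec h2 (nondeg_eig₀ h2 hwR hw hη')
    (by rw [finrank_eig₀ h2 hwR hw hη']; omega) (one_ne_zero (α := F₀))
  rw [finrank_eig₀ h2 hwR hw hη'] at hD₁d
  obtain ⟨a₂, ha₂, qa₂, D₂, hD₂, hD₂n, hD₂d, ho₂⟩ := take_vec h2 hD₁n (by omega) (one_ne_zero (α := F₀))
  obtain ⟨a₃, ha₃, qa₃, D₃, hD₃, hD₃n, hD₃d, ho₃⟩ := take_vec h2 hD₂n (by omega) (one_ne_zero (α := F₀))
  obtain ⟨a₄, ha₄, qa₄, -⟩ := take_vec h2 hD₃n (by omega) (one_ne_zero (α := F₀))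
  obtain ⟨t, htc, htR, htt, htk, htP, -, -, htfix⟩ := exists_split hQ h2 one_ne_zero one_ne_zero qa₁ qa₂ qa₃ qa₄
    (ho₁ _ ha₂) (ho₁ _ (hD₂ ha₃)) (ho₁ _ (hD₂ (hD₃ ha₄))) (ho₂ _ ha₃) (ho₂ _ (hD₃ ha₄)) (ho₃ _ ha₄)
  -- one negating the plane of the source
  obtain ⟨p₁, hp₁, qp₁, P₁, hP₁, hP₁n, hP₁d, hop⟩ := take_vec h2 (nondeg_eig₀ h2 hsR hs hη)
    (by rw [finrank_eig₀ h2 hsR hs hη]; omega) (one_ne_zero (α := F₀))
  rw [finrank_eig₀ h2 hsR hs hη] at hP₁d
  obtain ⟨⟨p₂, hp₂⟩, hp₂0⟩ := (Module.finrank_pos_iff_exists_ne_zero (R := F₀) (M := P₁)).1 (by omega)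
  set d := R.Q₀ p₂ with hd
  have hd0 : d ≠ 0 := fun h0 => by
    obtain ⟨y, hy⟩ := hP₁n.exists_polar_eq hp₂0 1
    have hy' : y ∈ Submodule.span F₀ {(⟨p₂, hp₂⟩ : P₁)} := by
      rw [show Submodule.span F₀ {(⟨p₂, hp₂⟩ : P₁)} = ⊤ from
        Submodule.eq_top_of_finrank_eq (by rw [finrank_span_singleton hp₂0]; omega)]
      exact Submodule.mem_top
    obtain ⟨c, rfl⟩ := Submodule.mem_span_singleton.1 hy'
    rw [polar_smul_right', polar_self', restr_apply, show R.Q₀ p₂ = 0 from h0, mul_zero, mul_zero] at hy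
    exact zero_ne_one hy
  obtain ⟨b₁, hb₁, qb₁, E₁, hE₁, hE₁n, hE₁d, hob⟩ := take_vec h2 (nondeg_eig₀ h2 hsR hs hη')
    (by rw [finrank_eig₀ h2 hsR hs hη']; omega) (one_ne_zero (α := F₀))
  rw [finrank_eig₀ h2 hsR hs hη'] at hE₁d
  obtain ⟨b₂, hb₂, qb₂, -⟩ := take_vec h2 hE₁n (by omega) hd0
  obtain ⟨r, hrc, hrR, hrr, hrk, hrP, hrp₁, hrp₂, hrfix⟩ := exists_split hQ h2 one_ne_zero hd0 qp₁ qb₁ hd.symm qb₂
    (horth hp₁ hb₁) (hop _ hp₂) (horth hp₁ (hE₁ hb₂))
    (by rw [polar_comm]; exact horth (hP₁ hp₂) hb₁) (hob _ hb₂) (horth (hP₁ hp₂) (hE₁ hb₂))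
  have htX := hX.rat t htc htR
  have hrX := hX.rat r hrc hrR
  set H := Subgroup.centralizer ({w} : Set (O Q)) with hH
  have hH' : ∀ {k : O Q}, k ∈ H ↔ Commute w k := fun {k} => by
    rw [hH, Subgroup.mem_centralizer_iff]
    exact ⟨fun h => h w rfl, fun h x hx => by rw [Set.mem_singleton_iff.1 hx]; exact h.eq⟩
  -- both commute with the target
  have commute_split : ∀ {x y : O Q}, x * x = 1 →
      (∀ v ∈ eig x η, (y : V ≃ₗ[F] V) v ∈ eig x η) → (∀ v ∈ eig x (-η), (y : V ≃ₗ[F] V) v ∈ eig x (-η)) →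
      Commute x y := by
    intro x y hx h1 h3
    refine O.ext_app fun v => ?_
    have hc := (isCompl_eig (s := x) hx h2).sup_eq_top
    have hmem : v ∈ eig x η ⊔ eig x (-η) := by
      rcases hη with rfl | rfl
      · rw [hc]; exact Submodule.mem_top
      · rw [neg_neg, sup_comm, hc]; exact Submodule.mem_top
    obtain ⟨p, hp, e, he, rfl⟩ := Submodule.mem_sup.1 hmem
    simp only [Subgroup.coe_mul, mul_app, map_add, mem_eig.1 hp, mem_eig.1 he, map_smul, mem_eig.1 (h1 p hp),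
      mem_eig.1 (h3 e he)]
  have htE : ∀ v : R.V₀, v ∈ R.eig₀ w η → (t : V ≃ₗ[F] V) v = v := fun v hv => htfix v
    (R.orth (by rw [polar_comm]; exact horth hv ha₁)) (R.orth (by rw [polar_comm]; exact horth hv (hD₁ ha₂)))
    (R.orth (by rw [polar_comm]; exact horth hv (hD₁ (hD₂ ha₃))))
    (R.orth (by rw [polar_comm]; exact horth hv (hD₁ (hD₂ (hD₃ ha₄)))))
  have htP' : ∀ v ∈ eig w η, (t : V ≃ₗ[F] V) v = v := fun v hv => by
    have hle : R.spanF (R.eig₀ w η) ≤ eig t (1 : F) := by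
      rw [spanF, Submodule.span_le]
      rintro _ ⟨x, hx, rfl⟩
      exact mem_eig.2 (by rw [one_smul]; exact htE x hx)
    simpa using mem_eig.1 (hle (eig_le_spanF h2 hwR hw hη hv))
  have hperpE : ∀ {x : O Q}, x * x = 1 → ∀ {ζ : F}, ζ = 1 ∨ ζ = -1 → eig x (-ζ) = perp Q (eig x ζ) := by
    intro x hx ζ hζ
    refine Submodule.eq_of_le_of_finrank_le (fun v hv => (mem_perp Q).2 fun u hu => eig_orth h2 hζ hu hv) ?_
    have h1 := hQ.finrank_add_perp (eig x ζ)
    have h3 := hsum hx hζ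
    omega
  have htw : Commute w t := commute_split hw (fun v hv => by rw [htP' v hv]; exact hv) fun v hv => by
    rw [hperpE hw hη] at hv ⊢
    intro u hu
    rw [← htP' u hu, O.polar_app]
    exact hv u hu
  have hrneg : ∀ v ∈ eig s η, (r : V ≃ₗ[F] V) v = -v := fun v hv => by
    have hle : R.spanF (R.eig₀ s η) ≤ eig r (-1 : F) := by
      rw [spanF, Submodule.span_le]
      rintro _ ⟨x, hx, rfl⟩
      refine mem_eig.2 ?_
      rw [neg_one_smul]
      have hspan : R.eig₀ s η ≤ Submodule.span F₀ {p₁} ⊔ Submodule.span F₀ {p₂} := by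
        have hne : p₂ ∉ Submodule.span F₀ {p₁} := fun hc => by
          obtain ⟨c, hc⟩ := Submodule.mem_span_singleton.1 hc
          have h0 := hop _ hp₂
          rw [← hc, polar_smul_right', polar_self', qp₁, mul_one] at h0
          have h20 : (2 : F₀) ≠ 0 := fun e => h2 (congrArg Subtype.val e)
          exact hp₂0 (Subtype.ext (show p₂ = 0 from hc.symm.trans (by rw [(mul_eq_zero.1 h0).resolve_right h20, zero_smul])))
        refine (Submodule.eq_of_le_of_finrank_le
          (sup_le (by simpa using hp₁) (by simpa using hP₁ hp₂)) ?_).ge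
        rw [Submodule.finrank_sup_span_singleton hne, finrank_span_singleton (fun e => by
          rw [e, QuadraticMap.map_zero] at qp₁; exact zero_ne_one qp₁), finrank_eig₀ h2 hsR hs hη, hk]
      obtain ⟨_, h1, _, h3, rfl⟩ := Submodule.mem_sup.1 (hspan hx)
      obtain ⟨c, rfl⟩ := Submodule.mem_span_singleton.1 h1
      obtain ⟨c', rfl⟩ := Submodule.mem_span_singleton.1 h3
      dsimp only
      rw [Submodule.coe_add, R.coe_smul, R.coe_smul, map_add, map_smul, map_smul, hrp₁, hrp₂]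
      module
    simpa using mem_eig.1 (hle (eig_le_spanF h2 hsR hs hη hv))
  have hrs : Commute s r := commute_split hs (fun v hv => by rw [hrneg v hv]; exact (eig s η).neg_mem hv)
    fun v hv => by
      rw [hperpE hs hη] at hv ⊢
      intro u hu
      rw [← neg_neg u, ← hrneg u hu, polar_neg_left, O.polar_app, hv u hu, neg_zero]
  have hr'w : Commute w (g * r * g⁻¹) := by
    have hw' : w = g * s * g⁻¹ := by rw [h, mul_inv_cancel_right]
    rw [hw']
    show g * s * g⁻¹ * (g * r * g⁻¹) = g * r * g⁻¹ * (g * s * g⁻¹)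
    rw [show g * s * g⁻¹ * (g * r * g⁻¹) = g * (s * r) * g⁻¹ by group, hrs.eq]
    group
  have hr'neg : ∀ v ∈ eig w η, ((g * r * g⁻¹ : O Q) : V ≃ₗ[F] V) v = -v := fun v hv => by
    have hv' : v ∈ eig (g * s * g⁻¹) η := by rwa [h, mul_inv_cancel_right]
    rw [eig_conj] at hv'
    obtain ⟨x, hx, rfl⟩ := hv'
    rw [Subgroup.coe_mul, Subgroup.coe_mul, mul_app, mul_app, LinearEquiv.coe_coe, Subgroup.coe_inv]
    show (g : V ≃ₗ[F] V) ((r : V ≃ₗ[F] V) ((g : V ≃ₗ[F] V).symm ((g : V ≃ₗ[F] V) x))) = _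
    rw [LinearEquiv.symm_apply_apply, hrneg x hx, map_neg]
  obtain ⟨z', z, j, hzj, hR', hi', hR, hi, hgz, hzt2, hzk, hztk⟩ := central hQ h2 hn hX hT hsqF hhalf hg H htX htR
    htt htk htP hrX hrr (Or.inr hrP)
    (fun hh hc => stab_of_invol hQ h2 hn hX hT hh hrR hrr hrR hrr hc.eq hrk)
    (hH'.2 htw) (hH'.2 hr'w) fun k hk' hkt => by
      obtain ⟨v, hv, hv0⟩ := Submodule.exists_mem_ne_zero_of_ne_bot (p := eig w η) fun e => by
        rw [e, finrank_bot] at hwk; omega
      have hkv : (k : V ≃ₗ[F] V) v ∈ eig w η := mem_eig.2 (by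
        rw [← mul_app, ← Subgroup.coe_mul, (hH'.1 hk').eq, Subgroup.coe_mul, mul_app, mem_eig.1 hv, map_smul])
      have h1 := hr'neg _ hkv
      rw [← hkt, Subgroup.coe_mul, Subgroup.coe_mul, mul_app, mul_app, Subgroup.coe_inv] at h1
      change (k : V ≃ₗ[F] V) ((t : V ≃ₗ[F] V) ((k : V ≃ₗ[F] V).symm ((k : V ≃ₗ[F] V) v))) = _ at h1
      rw [LinearEquiv.symm_apply_apply, htP' v hv, eq_neg_iff_add_eq_zero, ← two_smul F, smul_eq_zero,
        LinearEquiv.map_eq_zero_iff] at h1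
      exact hv0 (h1.resolve_left h2)
  rcases hzk with h24 | h4 | h24
  case inr.inl =>
    exact stab_of_invol hQ h2 hn hX hT hg hR' hi' hR hi hgz (by rw [finrank_eig_of_conj hgz, h4])
  all_goals
    obtain ⟨η₂, hη₂, hzη⟩ : ∃ η₂ : F, (η₂ = 1 ∨ η₂ = -1) ∧ finrank F (eig z η₂) = 2 := by
      first
        | exact ⟨-1, Or.inr rfl, h24⟩
        | exact ⟨1, Or.inl rfl, by have := finrank_eig_add h2 hi; omega⟩
    have hzw : Commute z w := by
      rw [hzj]
      exact ((htw.symm.mul_left hr'w.symm).pow_left j)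
    have hzP : ∃ ε : F, (ε = 1 ∨ ε = -1) ∧ eig w η ≤ eig z ε := by
      rw [hzj]
      clear * - htP' hr'neg
      induction j with
      | zero => exact ⟨1, Or.inl rfl, fun v _ => mem_eig.2 (by simp)⟩
      | succ i ih =>
        obtain ⟨ε, hε, hle⟩ := ih
        refine ⟨-ε, by rcases hε with rfl | rfl <;> simp, fun v hv => mem_eig.2 ?_⟩
        rw [pow_succ, Subgroup.coe_mul, mul_app, Subgroup.coe_mul, mul_app, hr'neg v hv, map_neg, htP' v hv,
          map_neg, mem_eig.1 (hle hv), neg_smul]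
    obtain ⟨ε, hε, hPz⟩ := hzP
    have hzsum := hsum hi hη₂
    have hEz : eig w (-η) = perp Q (eig w η) := hperpE hw hη
    by_cases heq : ε = η₂
    · -- the plane would be an eigenspace
      exfalso
      subst heq
      have hPeq : eig w η = eig z ε := Submodule.eq_of_le_of_finrank_le hPz (by omega)
      have hEz' : eig z (-ε) = eig w (-η) := by rw [hEz, hperpE hi hη₂, hPeq]
      have htE' : eig t (-1 : F) ≤ eig z (-ε) := fun v hv => by
        rw [hEz', hEz]
        intro u hu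
        exact eig_orth h2 (Or.inl rfl) (mem_eig.2 (by rw [htP' u hu, one_smul])) hv
      have hle : eig w η ⊔ eig t (-1 : F) ≤ eig (z * t) ε := sup_le
        (fun v hv => mem_eig.2 (by rw [Subgroup.coe_mul, mul_app, htP' v hv, mem_eig.1 (hPz hv)]))
        (fun v hv => mem_eig.2 (by
          rw [Subgroup.coe_mul, mul_app, mem_eig.1 hv, map_smul, mem_eig.1 (htE' hv), smul_smul, neg_mul_neg, one_mul]))
      have h1 := Submodule.finrank_mono hle
      have h3 := Submodule.finrank_sup_add_finrank_inf_eq (eig w η) (eig t (-1 : F))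
      have h5 : eig w η ⊓ eig t (-1 : F) = ⊥ := (Submodule.eq_bot_iff _).2 fun v hv => by
        have h6 := mem_eig.1 hv.2
        rw [htP' v hv.1, neg_one_smul, eq_neg_iff_add_eq_zero, ← two_smul F, smul_eq_zero] at h6
        exact h6.resolve_left h2
      rw [h5, finrank_bot] at h3
      have h7 := hsum hzt2 hε
      rcases hε with rfl | rfl
      · omega
      · rw [neg_neg] at h7; omega
    · -- the product has two four-spaces
      have hεη : ε = -η₂ := by
        rcases hε with rfl | rfl <;> rcases hη₂ with rfl | rfl <;> first | exact absurd rfl heq | simp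
      subst hεη
      have hz2E : eig z η₂ ≤ eig w (-η) := fun v hv => by
        rw [hEz]
        intro u hu
        rw [polar_comm]
        exact eig_orth h2 hη₂ hv (hPz hu)
      have h2i : z * w * (z * w) = 1 := by rw [hzw.symm.mul_mul_mul_comm, hi, hw, one_mul]
      have hc' : Commute z' s := by
        show z' * s = s * z'
        have e1 : z' = g⁻¹ * z * g := by rw [mul_assoc, ← hgz, inv_mul_cancel_left]
        have e2 : s = g⁻¹ * w * g := by rw [mul_assoc, ← h, inv_mul_cancel_left]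
        rw [e1, e2, show g⁻¹ * z * g * (g⁻¹ * w * g) = g⁻¹ * (z * w) * g by group, hzw.eq]
        group
      have hA : eig w η ⊔ eig z η₂ ≤ eig (z * w) (-η₂ * η) := sup_le
        (fun v hv => mem_eig.2 (by
          rw [Subgroup.coe_mul, mul_app, mem_eig.1 hv, map_smul, mem_eig.1 (hPz hv), smul_smul, mul_comm]))
        (fun v hv => mem_eig.2 (by
          rw [Subgroup.coe_mul, mul_app, mem_eig.1 (hz2E hv), map_smul, mem_eig.1 hv, smul_smul]
          congr 1; ring))
      have hB : eig z (-η₂) ⊓ eig w (-η) ≤ eig (z * w) (-(-η₂ * η)) := fun v hv => mem_eig.2 (by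
        rw [Subgroup.coe_mul, mul_app, mem_eig.1 hv.2, map_smul, mem_eig.1 hv.1, smul_smul]
        congr 1; ring)
      have h1 := Submodule.finrank_mono hA
      have h3 := Submodule.finrank_sup_add_finrank_inf_eq (eig w η) (eig z η₂)
      have h5 : eig w η ⊓ eig z η₂ = ⊥ := (Submodule.eq_bot_iff _).2 fun v hv => by
        have e1 := mem_eig.1 hv.2
        rw [mem_eig.1 (hPz hv.1), neg_smul, neg_eq_iff_add_eq_zero, ← two_smul F, smul_eq_zero,
          smul_eq_zero] at e1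
        exact (e1.resolve_left h2).resolve_left (by rcases hη₂ with rfl | rfl <;> simp)
      rw [h5, finrank_bot] at h3
      have h6 := Submodule.finrank_mono hB
      have h7 := Submodule.finrank_sup_add_finrank_inf_eq (eig z (-η₂)) (eig w (-η))
      have h8 := Submodule.finrank_le (eig z (-η₂) ⊔ eig w (-η))
      have hζ : -η₂ * η = 1 ∨ -η₂ * η = -1 := by
        rcases hη with rfl | rfl <;> rcases hη₂ with rfl | rfl <;> simp
      have h9 := hsum h2i hζ
      refine stab_of_invol hQ h2 hn hX hT hg (hR'.mul hsR) (by rw [hc'.symm.mul_mul_mul_comm, hi', hs, one_mul])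
        (hR.mul hwR) h2i (by rw [← mul_assoc, hgz, mul_assoc, h, mul_assoc]) ?_
      rw [finrank_eig_of_conj (show g * (z' * s) = z * w * g by rw [← mul_assoc, hgz, mul_assoc, h, mul_assoc])]
      rcases hζ with he | he <;> rw [he] at h1 h6 h9
      · omega
      · rw [neg_neg] at h6 h9; omega

/-- No new parameters: every element of `X` preserves the rational structure up to a scalar. -/
theorem stab_of_noNew_odd {g : O Q} (hg : g ∈ X) : R.Stab g := by
  have := R.finiteDimensional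
  have hd0 : finrank F₀ R.V₀ = finrank F V := R.finrank_eq
  obtain ⟨a₁, -, qa₁, D₁, -, hD₁n, hD₁d, ho₁⟩ := take_vec (R := R) h2 (nondeg_restr_top R.nondeg)
    (by rw [finrank_top]; omega) (one_ne_zero (α := F₀))
  rw [finrank_top] at hD₁d
  obtain ⟨a₂, ha₂, qa₂, D₂, hD₂, hD₂n, hD₂d, ho₂⟩ := take_vec h2 hD₁n (by omega) (one_ne_zero (α := F₀))
  obtain ⟨a₃, ha₃, qa₃, D₃, hD₃, hD₃n, hD₃d, ho₃⟩ := take_vec h2 hD₂n (by omega) (one_ne_zero (α := F₀))
  obtain ⟨a₄, ha₄, qa₄, -⟩ := take_vec h2 hD₃n (by omega) (one_ne_zero (α := F₀))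
  obtain ⟨t, htc, htR, htt, htk, htP, -⟩ := exists_split hQ h2 one_ne_zero one_ne_zero qa₁ qa₂ qa₃ qa₄
    (ho₁ _ ha₂) (ho₁ _ (hD₂ ha₃)) (ho₁ _ (hD₂ (hD₃ ha₄))) (ho₂ _ ha₃) (ho₂ _ (hD₃ ha₄)) (ho₃ _ ha₄)
  obtain ⟨r, hrc, hrR, hrr, hrk⟩ := exists_two hQ h2 qa₁ qa₂ (ho₁ _ ha₂)
  obtain ⟨z', z, -, -, hR', hi', hR, hi, hgz, -, hzk, -⟩ := central hQ h2 hn hX hT hsqF hhalf hg ⊤
    (hX.rat t htc htR) htR htt htk htP (hX.rat r hrc hrR) hrr (Or.inl hrk)
    (fun hh hc => stab_of_two_six hQ h2 hn hX hT hsqF hhalf hh hrR hrr hrR hrr hc.eq (Or.inr rfl) hrk)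
    trivial trivial fun k _ hk => by
      have h1 := finrank_eig_conj k t (-1 : F)
      rw [hk, finrank_eig_conj, htk, hrk] at h1
      omega
  have hk' := finrank_eig_of_conj hgz (-1 : F)
  have hs' := finrank_eig_add h2 hi'
  rcases hzk with h | h | h
  · exact stab_of_two_six hQ h2 hn hX hT hsqF hhalf hg hR' hi' hR hi hgz (Or.inr rfl) (by omega)
  · exact stab_of_invol hQ h2 hn hX hT hg hR' hi' hR hi hgz (by omega)
  · exact stab_of_two_six hQ h2 hn hX hT hsqF hhalf hg hR' hi' hR hi hgz (Or.inl rfl) (by omega)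

end Cfsg.Agent.H97.OmegaEight.Sub
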