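import Cfsg.Agent.H98.OrthMax.NondegWrap
import Cfsg.Agent.H97.OmegaEight.RootOut

/-!
Stabilisers in Ω of nondegenerate subspaces are maximal also in small dimensions, as soon as the orthogonal
contains a totally singular plane and the subspace contains none.
-/

set_option autoImplicit false

namespace Cfsg.Agent.H97.OmegaEight

open QuadraticMap Module Cfsg.Agent.Orthogonal Cfsg.Agent.H98.OrthMax

section Abstract

variable {F V : Type*} [Field F] [Fintype F] [AddCommGroup V] [Module F V] [FiniteDimensional F V]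
  {Q : QuadraticForm F V} {X : Subgroup (O Q)} {W : Submodule F V}

theorem sieGroup_le_of_plane (hQ : Nondeg Q) (hn : 5 ≤ finrank F V) (hW : Nondeg (restr Q W))
    (hd : 4 ≤ finrank F (perp Q W))
    (h4 : finrank F (perp Q W) = 4 → 4 ≤ finrank F W)
    (hL : HasSingularPlane Q (perp Q W))
    (hWn : ∀ a ∈ W, ∀ b ∈ W, Q a = 0 → Q b = 0 → polar Q a b = 0 → a ≠ 0 → b ∈ Submodule.span F {a})
    (hex : finrank F W = 2 → (∃ x ∈ W, x ≠ 0 ∧ Q x = 0) → 4 ≤ Fintype.card F)
    (hX : ∀ x ∈ commutator (O Q), (∀ v ∈ W, (x : V ≃ₗ[F] V) v ∈ W) → x ∈ X)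
    (hg : ∃ g ∈ X, ∃ v ∈ W, (g : V ≃ₗ[F] V) v ∉ W) : sieGroup Q ≤ X := by
  set U := perp Q W with hUdef
  have hU : Nondeg (restr Q U) := hQ.nondeg_perp hW
  have hperpU : perp Q U = W := hQ.perp_perp W
  have hdec : ∀ z : V, ∃ p ∈ U, ∃ q ∈ W, z = p + q := fun z => by
    obtain ⟨q, hq, p, hp, hqp⟩ := Submodule.mem_sup.1
      ((hQ.isCompl_perp hW).sup_eq_top ▸ Submodule.mem_top : z ∈ W ⊔ perp Q W)
    exact ⟨p, hp, q, hq, by rw [← hqp, add_comm]⟩
  have hcomm : ∀ u w (hu : Q u = 0) (hw : polar Q u w = 0), sie u w hu hw ∈ commutator (O Q) :=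
    fun u w hu hw => by rw [← sieGroup_eq_commutator hQ hn]; exact sie_mem hu hw
  have hfixX : ∀ x ∈ commutator (O Q), (∀ v ∈ W, (x : V ≃ₗ[F] V) v = v) → x ∈ X := fun x hx h =>
    hX x hx fun v hv => by rw [h v hv]; exact hv
  have hWU : ∀ {z v : V}, z ∈ U → v ∈ W → polar Q z v = 0 := fun hz hv => by
    rw [polar_comm]; exact hz _ hv
  have hUroot : ∀ u w (hu : Q u = 0) (hw : polar Q u w = 0), u ∈ U → w ∈ U → sie u w hu hw ∈ X :=
    fun u w hu hw huU hwU => hfixX _ (hcomm u w hu hw) fun v hv =>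
      sie_fix' hu hw (hWU huU hv) (hWU hwU hv)
  have hroots : ∀ u w (hu : Q u = 0) (hw : polar Q u w = 0),
      (u ∈ U ∧ w ∈ U) ∨ (u ∈ W ∧ w ∈ W) → sie u w hu hw ∈ X := by
    rintro u w hu hw (⟨h1, h2⟩ | ⟨h1, h2⟩)
    · exact hUroot u w hu hw h1 h2
    · exact hX _ (hcomm u w hu hw) fun v hv => by
        rw [sie_app]; exact W.sub_mem (W.add_mem hv (W.smul_mem _ h1)) (W.smul_mem _ h2)
  obtain ⟨g, hgX, hgW⟩ := hg
  obtain ⟨u, b₀, hu, hub₀, huU, hu0, hb₀, hb₀0, hroot⟩ := exists_root_out hQ hW hd h4 hL hWn hroots hgX hgW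
  obtain ⟨f', hf', huf'⟩ := hU.exists_partner (u := ⟨u, huU⟩) (fun h => hu0 (congrArg Subtype.val h)) hu
  rw [polar_restr] at huf'
  rw [restr_apply] at hf'
  obtain ⟨f, hfU, hf, huf⟩ : ∃ f ∈ U, Q f = 0 ∧ polar Q u f = 1 := ⟨f', f'.2, hf', huf'⟩
  have hub : ∀ {y : V}, y ∈ W → polar Q u y = 0 := fun hy => hWU huU hy
  -- all of `W` is admissible
  let T : Submodule F W :=
    { carrier := {y | ∀ (c : F) (hw : polar Q u (c • (y : V)) = 0), sie u (c • (y : V)) hu hw ∈ X}
      zero_mem' := fun c hw => by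
        convert X.one_mem
        exact O.ext_app fun x => by rw [sie_app]; simp
      add_mem' := fun {y y'} hy hy' c hw => by
        have := X.mul_mem (hy c (hub (W.smul_mem c y.2))) (hy' c (hub (W.smul_mem c y'.2)))
        rw [sie_mul] at this
        convert this using 1
        exact sie_congr _ _ _ _ rfl (by rw [Submodule.coe_add, smul_add])
      smul_mem' := fun s y hy c hw => by
        convert hy (c * s) (hub (W.smul_mem _ y.2)) using 1
        exact sie_congr _ _ _ _ rfl (by rw [Submodule.coe_smul, smul_smul]) }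
  have hT0 : (⟨b₀, hb₀⟩ : W) ∈ T := by
    intro c hw
    rcases eq_or_ne c 0 with rfl | hc
    · convert X.one_mem
      exact O.ext_app fun x => by rw [sie_app]; simp
    obtain ⟨t, ht, htu, htW⟩ := exists_torus hQ hU (by omega) huU hfU hu hf huf hc
    rw [hperpU] at htW
    have h := X.mul_mem (X.mul_mem (hfixX t ht htW) hroot) (X.inv_mem (hfixX t ht htW))
    rw [sie_conj, sie_congr _ _ (by rw [qmap_smul, hu, mul_zero]) (by rw [polar_smul_left', hub hb₀, mul_zero])
      htu (htW b₀ hb₀), sie_smul hu (hub hb₀)] at h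
    exact h
  have hinv : ∀ h ∈ commutator (O Q), (h : V ≃ₗ[F] V) u = u → ∀ hh : ∀ v ∈ W, (h : V ≃ₗ[F] V) v ∈ W,
      ∀ y ∈ T, (⟨(h : V ≃ₗ[F] V) (y : W), hh _ (y : W).2⟩ : W) ∈ T := by
    intro h hhc hhu hh y hy c hw
    have hX' := hX h hhc hh
    have := X.mul_mem (X.mul_mem hX' (hy c (hub (W.smul_mem c y.2)))) (X.inv_mem hX')
    rw [sie_conj] at this
    convert this using 1
    exact sie_congr _ _ _ _ hhu.symm (map_smul _ _ _).symm
  have hTtop : T = ⊤ := by
    refine eq_top_of_invariant hW T (fun h => hb₀0 ?_) (fun h2 hx => ?_) ?_ ?_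
    · exact congrArg Subtype.val ((Submodule.mem_bot F).1 (h ▸ hT0) : (⟨b₀, hb₀⟩ : W) = 0)
    · obtain ⟨x, hx0, hx⟩ := hx
      exact hex h2 ⟨x, x.2, fun h => hx0 (Subtype.ext h), hx⟩
    · intro a' y ha' hy
      rw [restr_apply] at ha'
      obtain ⟨c, hcU, hcu, -, hc⟩ := exists_mid hU (by omega) huU hfU hu hf huf (Q (a' : V))
      have hc1 : ∀ v ∈ W, (rO Q (a' : V) * rO Q c : O Q).1 v =
          v - ((Q (a' : V))⁻¹ * polar Q (a' : V) v) • (a' : V) := fun v hv => by
        rw [Subgroup.coe_mul, mul_app, rO_fix (v := c) (x := v) (hWU hcU hv), rO_app]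
      have := hinv _ (rO_mul_mem hQ ha' hc) (by
        rw [Subgroup.coe_mul, mul_app, rO_fix (v := c) (by rw [polar_comm]; exact hcu),
          rO_fix (v := (a' : V)) (by rw [polar_comm]; exact hub a'.2)])
        (fun v hv => by rw [hc1 v hv]; exact W.sub_mem hv (W.smul_mem _ a'.2)) y hy
      convert this using 1
      refine Subtype.ext ?_
      rw [Submodule.coe_sub, Submodule.coe_smul, polar_restr, restr_apply]
      exact (hc1 _ y.2).symm
    · intro x y' y hx hxy hy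
      rw [restr_apply] at hx
      rw [polar_restr] at hxy
      have := hinv (sie (x : V) (y' : V) hx hxy) (hcomm _ _ hx hxy)
        (sie_fix' hx hxy (by rw [polar_comm]; exact hub x.2) (by rw [polar_comm]; exact hub y'.2))
        (fun v hv => by rw [sie_app]; exact W.sub_mem (W.add_mem hv (W.smul_mem _ x.2)) (W.smul_mem _ y'.2)) y hy
      convert this using 1
      refine Subtype.ext ?_
      simp only [sie_app, Submodule.coe_sub, Submodule.coe_add, Submodule.coe_smul, polar_restr, restr_apply]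
  have hfull : Full X u := fun w _ hw => by
    obtain ⟨p', hp', q', hq', hpq⟩ := hdec w
    have hup' : polar Q u p' = 0 := by
      rw [hpq, polar_add_right, hub hq', add_zero] at hw
      exact hw
    have h1 : sie u q' hu (hub hq') ∈ X := by
      have := (hTtop ▸ Submodule.mem_top : (⟨q', hq'⟩ : W) ∈ T) 1 (by rw [one_smul]; exact hub hq')
      convert this using 1
      exact sie_congr _ _ _ _ rfl (one_smul F q').symm
    have := X.mul_mem (hUroot u p' hu hup' huU hp') h1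
    rw [sie_mul] at this
    convert this using 1
    exact sie_congr _ _ _ _ rfl hpq
  -- a second centre
  obtain ⟨w₂, hw₂U, hw₂u, hw₂f, hw₂⟩ := exists_mid hU (by omega) huU hfU hu hf huf 1
  have hmem₂ := hUroot f w₂ hf hw₂f hfU hw₂U
  refine sieGroup_le_of_pair hQ (by omega) hfull (hfull.map hmem₂) hu (by rw [O.map_app]; exact hu) ?_
  rw [sie_app, hw₂, polar_comm (⇑Q) f u, huf, polar_comm (⇑Q) w₂ u, hw₂u, polar_sub_right, polar_add_right,
    polar_smul_right', polar_smul_right', polar_self', hu, huf, hw₂u]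
  norm_num

end Abstract

variable {F : Type*} [Field F] [Fintype F] {ι : Type} [Fintype ι] [DecidableEq ι] {Q : QuadraticForm F (ι → F)}

theorem isMaximalIn_nondeg_plane (hQ : Nondeg Q) (hn : 5 ≤ finrank F (ι → F)) {W : Submodule F (ι → F)}
    (hW0 : W ≠ ⊥) (hW : Nondeg (restr Q W)) (hd : 4 ≤ finrank F (perp Q W))
    (h4 : finrank F (perp Q W) = 4 → 4 ≤ finrank F W)
    (hL : HasSingularPlane Q (perp Q W))
    (hWn : ∀ a ∈ W, ∀ b ∈ W, Q a = 0 → Q b = 0 → polar Q a b = 0 → a ≠ 0 → b ∈ Submodule.span F {a})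
    (hex : finrank F W = 2 → (∃ x ∈ W, x ≠ 0 ∧ Q x = 0) → 4 ≤ Fintype.card F) :
    Cfsg.Geo.IsMaximalIn (Cfsg.Geo.omegaGL ⇑Q) (Cfsg.Geo.subspaceStabilizer W ⊓ Cfsg.Geo.omegaGL ⇑Q) := by
  refine isMaximalIn_omega hQ hn _ ?_ fun X hX hg => ?_
  · obtain ⟨u, hu0, hu⟩ := (hQ.nondeg_perp hW).exists_singular (by omega)
    rw [restr_apply] at hu
    obtain ⟨b, hb, hb0⟩ := (Submodule.ne_bot_iff W).1 hW0
    obtain ⟨x, hx⟩ := hW.exists_polar_eq (x := ⟨b, hb⟩) (fun h => hb0 (congrArg Subtype.val h)) 1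
    rw [polar_restr] at hx
    have hub : polar Q (u : ι → F) b = 0 := (polar_comm (⇑Q) (u : ι → F) b).trans (u.2 b hb)
    have hux : polar Q (u : ι → F) x = 0 := (polar_comm (⇑Q) (u : ι → F) x).trans (u.2 x x.2)
    refine ⟨sie (u : ι → F) b hu hub, sie_mem_commutator hQ hn hu hub, fun hmem => ?_⟩
    have h1 := ((H96.mem_subspaceStabilizer_om Q W _).1 hmem x).1 x.2
    rw [sie_app, hx, hux, mul_zero, sub_zero, one_smul, zero_smul, sub_zero, W.add_mem_iff_right x.2] at h1
    have : (u : ι → F) ∈ W ⊓ perp Q W := ⟨h1, u.2⟩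
    rw [(nondeg_restr_iff W).1 hW, Submodule.mem_bot] at this
    exact hu0 (Subtype.ext this)
  refine sieGroup_le_of_plane hQ hn hW hd h4 hL hWn hex (fun x hx h => hX x hx ?_) ?_
  · exact (H96.mem_subspaceStabilizer_om Q W x).2 fun v => stab_iff_of_le x h v
  · obtain ⟨g, hg, hgS⟩ := hg
    refine ⟨g, hg, ?_⟩
    by_contra hc
    push Not at hc
    exact hgS ((H96.mem_subspaceStabilizer_om Q W g).2 fun v => stab_iff_of_le g hc v)

end Cfsg.Agent.H97.OmegaEight
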