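import Cfsg.Agent.H57.ExtOrth.Main
import Cfsg.Agent.H98.OrthMax.NondegAux

/-!
The normaliser in Ω of a self-adjoint quadratic field when the space over the field has dimension four and
contains no totally singular line pair.
-/

set_option autoImplicit false
set_option linter.style.haveILetI false

namespace Cfsg.Agent.H97.OmegaEight

open QuadraticMap Module Cfsg.Agent.Orthogonal Cfsg.Agent.H57.ExtOrth
open Cfsg.Agent.H98.SubfieldOrth (SIn sIn_zero)

variable {F K V : Type*} [Field F] [Finite F] [Field K] [Algebra F K] [AddCommGroup V] [Module F V] [Module K V]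
  [IsScalarTower F K V] [FiniteDimensional K V] [FiniteDimensional F K] [FiniteDimensional F V]
  {Q : QuadraticForm F V} {S : EStr Q K} {X : Subgroup (O Q)} {u f : V}

omit [FiniteDimensional F V] in
/-- A defect moves a line off as soon as the space over the field has dimension three. -/
theorem move_any {h : O Q} {σ : K ≃+* K} {e : K} {C : K →ₗ[F] K} (hm : 4 ≤ finrank K V) (hX : S.Over X)
    (hs : S.Shape u f h σ e C) (p : S.Pair u f) (hh : h ∈ X) (hC : C ≠ 0) :
    ∃ g ∈ X, ∃ w, w ≠ 0 ∧ S.QK w = 0 ∧ S.QK ((g : V ≃ₗ[F] V) w) = 0 ∧ ¬KeepsLine K g w := by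
  have : Finite K := Module.finite_of_finite F
  set W := perp S.QK (Submodule.span K {u, f}) with hW'
  have hW := S.nd.nondeg_hyperbolic_perp p.su p.sf p.uf
  have hWr := S.nd.finrank_hyperbolic_perp p.su p.sf p.uf
  have memW : ∀ w : V, w ∈ W → S.B u w = 0 ∧ S.B f w = 0 := fun w hw => (mem_perp_span_pair S.QK).1 hw
  obtain ⟨y₀, z, hy₀, hz, hz0, hzy, hQy₀, hind⟩ : ∃ y₀ z : V, y₀ ∈ W ∧ z ∈ W ∧ z ≠ 0 ∧ S.B z y₀ = 0 ∧
      S.QK y₀ = -σ.symm (C 1) ∧ ∀ a b : K, a • z = b • y₀ → a = 0 := by
    have hW2 : 2 ≤ finrank K W := by rw [hW']; omega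
    obtain ⟨y₀, z, hz0, hzy, hy, hy0⟩ : ∃ y₀ z : W, z ≠ 0 ∧ S.B (z : V) (y₀ : V) = 0 ∧
        S.QK (y₀ : V) = -σ.symm (C 1) ∧ (S.QK (y₀ : V) = 0 → y₀ = 0) := by
      by_cases hC1 : C 1 = 0
      · obtain ⟨z, hz0⟩ := (Module.finrank_pos_iff_exists_ne_zero (R := K) (M := W)).1 (by omega)
        exact ⟨0, z, hz0, by rw [Submodule.coe_zero, EStr.B, polar_zero_right],
          by rw [Submodule.coe_zero, QuadraticMap.map_zero, hC1, map_zero, neg_zero], fun _ => rfl⟩
      obtain ⟨y₀, hy⟩ := hW.exists_value hW2 (-σ.symm (C 1))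
      rw [restr_apply] at hy
      have hne : S.QK (y₀ : V) ≠ 0 := by
        rw [hy, neg_ne_zero]
        exact fun h => hC1 (σ.symm.injective (h.trans (map_zero σ.symm).symm))
      have hy0 : y₀ ≠ 0 := fun h => hne (by rw [h, Submodule.coe_zero, QuadraticMap.map_zero])
      obtain ⟨z, hz, hz0⟩ : ∃ z ∈ perp (restr S.QK W) (Submodule.span K {y₀}), z ≠ 0 :=
        Submodule.exists_mem_ne_zero_of_ne_bot fun h => by
          have h2 := hW.finrank_perp_singleton hy0
          rw [h, finrank_bot] at h2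
          omega
      rw [mem_perp_span_singleton, polar_restr, polar_comm] at hz
      exact ⟨y₀, z, hz0, hz, hy, fun h => absurd h hne⟩
    refine ⟨y₀, z, y₀.2, z.2, fun h => hz0 (Subtype.ext h), hzy, hy, fun a b hab => ?_⟩
    by_contra ha
    have h1 : S.B (z : V) (y₀ : V) * a = b * (2 * S.QK (y₀ : V)) := by
      rw [← polar_self', ← polar_smul_left', ← hab, polar_smul_left', mul_comm]
    rw [hzy, zero_mul] at h1
    rcases mul_eq_zero.1 h1.symm with h2 | h2
    · rw [h2, zero_smul, smul_eq_zero] at hab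
      exact hz0 (Subtype.ext (hab.resolve_left ha))
    · rw [hy0 ((mul_eq_zero.1 h2).resolve_left S.two), Submodule.coe_zero, smul_zero, smul_eq_zero] at hab
      exact hz0 (Subtype.ext (hab.resolve_left ha))
  obtain ⟨huy, hfy⟩ := memW _ hy₀
  obtain ⟨huz, hfz⟩ := memW _ hz
  set E := S.E f z p.sf hfz with hE
  set g := h * E * h⁻¹ with hg
  have hgh : ∀ x, (g : V ≃ₗ[F] V) ((h : V ≃ₗ[F] V) x) = (h : V ≃ₗ[F] V) ((E : V ≃ₗ[F] V) x) := fun x => by
    rw [hg, ← mul_app, ← mul_app, ← Subgroup.coe_mul, ← Subgroup.coe_mul, inv_mul_cancel_right]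
  set y := f + y₀ with hy
  obtain ⟨hhyu, hhyf, hhy⟩ := hs.perp _ huy hfy
  obtain ⟨hhzu, hhzf, hhz⟩ := hs.perp _ huz hfz
  have hhyy : (h : V ≃ₗ[F] V) y = e • f + C 1 • u + (h : V ≃ₗ[F] V) y₀ := by
    rw [hy, map_add, hs.image_f]
  have hEy : (E : V ≃ₗ[F] V) y = y := by
    have e1 : S.B f y = 0 := by rw [hy, EStr.B, polar_add_right, ← EStr.B, ← EStr.B, p.ff, hfy, add_zero]
    have e2 : S.B z y = 0 := by
      rw [hy, EStr.B, polar_add_right, polar_comm (⇑S.QK) z f, ← EStr.B, ← EStr.B, hfz, hzy, add_zero]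
    rw [hE, EStr.E_app_perp _ _ _ e1, e2, zero_smul, add_zero]
  have hEu : (E : V ≃ₗ[F] V) u = u + (-S.QK z) • f - z := by
    have e2 : S.B z u = 0 := by rw [EStr.B, polar_comm]; exact huz
    rw [hE, EStr.E_app, p.fu, e2, zero_sub, mul_one, one_smul]
  refine ⟨g, X.mul_mem (X.mul_mem hh (hX.E_mem _ _)) (X.inv_mem hh), (h : V ≃ₗ[F] V) y, fun h0 => ?_, ?_, ?_, ?_⟩
  · have := congrArg (S.B u) h0
    rw [hhyy, EStr.B, polar_add_right, polar_add_right, ← EStr.B, ← EStr.B, ← EStr.B, p.Bu_smul_f, p.Bu_smul_u,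
      hhyu, add_zero, add_zero, EStr.B, polar_zero_right] at this
    exact hs.e_ne this
  · rw [hhyy, map_add_polar, map_add_polar, qmap_smul, qmap_smul, p.sf, p.su, hs.norm _ huy hfy, hQy₀, polar_add_left,
      polar_smul_left', polar_smul_left', polar_smul_left', polar_smul_right',
      show polar S.QK f ((h : V ≃ₗ[F] V) y₀) = 0 from hhyf, show polar S.QK u ((h : V ≃ₗ[F] V) y₀) = 0 from hhyu,
      show polar S.QK f u = 1 from p.fu, map_neg, σ.apply_symm_apply]
    ring
  · rw [hgh, hEy, hhyy, map_add_polar, map_add_polar, qmap_smul, qmap_smul, p.sf, p.su, hs.norm _ huy hfy, hQy₀, polar_add_left,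
      polar_smul_left', polar_smul_left', polar_smul_left', polar_smul_right',
      show polar S.QK f ((h : V ≃ₗ[F] V) y₀) = 0 from hhyf, show polar S.QK u ((h : V ≃ₗ[F] V) y₀) = 0 from hhyu,
      show polar S.QK f u = 1 from p.fu, map_neg, σ.apply_symm_apply]
    ring
  · intro hk
    refine hC (hs.eq_zero_of_twist p fun l => sub_eq_zero.1 ?_)
    obtain ⟨k', hk'⟩ := hk (σ l)
    set D := C l - σ l * C 1 with hD
    obtain ⟨μ, hμ⟩ := σ.surjective D
    have h1 : σ l • (h : V ≃ₗ[F] V) y = (h : V ≃ₗ[F] V) (l • y - μ • u) := by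
      rw [map_sub, hy, smul_add, map_add, map_add, hs.on_f, hs.on_u, hhy, hs.image_f, hμ, hD]
      module
    have h2 : (h : V ≃ₗ[F] V) ((E : V ≃ₗ[F] V) (l • y - μ • u)) =
        σ l • (h : V ≃ₗ[F] V) y + (σ (μ * S.QK z) * e) • f + C (μ * S.QK z) • u + D • (h : V ≃ₗ[F] V) z := by
      rw [map_sub (E : V ≃ₗ[F] V), EStr.E_semi, EStr.E_semi, hEy, hEu,
        show l • y - μ • (u + (-S.QK z) • f - z) =
          (l • f + l • y₀) - μ • u + (μ * S.QK z) • f + μ • z by rw [hy]; module,
        map_add, map_add, map_sub, map_add, hs.on_f, hhy, hs.on_u, hs.on_f, hhz, hμ, hy, map_add, hs.image_f, hD]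
      module
    rw [h1, hgh, h2, hgh, hEy, hhyy] at hk'
    obtain ⟨a, ha⟩ : ∃ a, a = k' - σ l := ⟨_, rfl⟩
    obtain ⟨s, hs'⟩ := σ.surjective a
    have h3 : (h : V ≃ₗ[F] V) (μ • z - s • y₀) =
        (a * e - σ (μ * S.QK z) * e) • f + (a * C 1 - C (μ * S.QK z)) • u := by
      rw [map_sub, hhz, hhy, hμ, hs', ha]
      linear_combination (norm := module) hk'
    have hu0 : S.B u (μ • z - s • y₀) = 0 := by
      rw [EStr.B, polar_sub_right, polar_smul_right', polar_smul_right', show polar S.QK u z = 0 from huz,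
        show polar S.QK u y₀ = 0 from huy]; ring
    have hf0 : S.B f (μ • z - s • y₀) = 0 := by
      rw [EStr.B, polar_sub_right, polar_smul_right', polar_smul_right', show polar S.QK f z = 0 from hfz,
        show polar S.QK f y₀ = 0 from hfy]; ring
    obtain ⟨g1, g2, -⟩ := hs.perp _ hu0 hf0
    rw [h3, EStr.B, polar_add_right, ← EStr.B, ← EStr.B, p.Bu_smul_f, p.Bu_smul_u, add_zero] at g1
    rw [h3, EStr.B, polar_add_right, ← EStr.B, ← EStr.B, p.Bf_smul_f, p.Bf_smul_u, zero_add] at g2
    rw [g1, g2, zero_smul, zero_smul, add_zero, LinearEquiv.map_eq_zero_iff, sub_eq_zero] at h3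
    rw [← hμ, hind μ s h3, map_zero]

/-- A long root element from a singular vector to an anisotropic one of a quadratic extension gives every Eichler
transformation. -/
theorem sieGroup_le_of_line (hm : finrank K V = 4) (hr : finrank F K = 2) (hX : S.Over X) (p : S.Pair u f)
    (haniso : ∀ z, S.B u z = 0 → S.B f z = 0 → S.QK z = 0 → z = 0)
    {y : V} (hin : SIn X u y) (hQy : Q y = 0) (huy : S.B u y = 0) (hfy : S.B f y = 0) (hy0 : y ≠ 0) :
    sieGroup Q ≤ X := by
  have : Finite K := Module.finite_of_finite F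
  have hc : S.QK y ≠ 0 := fun h => hy0 (haniso y huy hfy h)
  have hyu : S.B y u = 0 := by rw [EStr.B, polar_comm]; exact huy
  have hyf : S.B y f = 0 := by rw [EStr.B, polar_comm]; exact hfy
  have hhu : SIn X y u := by
    have h := ((hin.congr rfl (one_smul F y).symm).swap hQy
      (show polar Q u y = 0 by rw [S.f_eq, huy, map_zero])).neg
    exact h.congr rfl (by rw [neg_smul, neg_neg, one_smul])
  -- a vector beside it
  obtain ⟨z, huz, hfz, hyz, hz0⟩ : ∃ z, S.B u z = 0 ∧ S.B f z = 0 ∧ S.B y z = 0 ∧ z ≠ 0 := by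
    have hr' := S.nd.finrank_hyperbolic_perp p.su p.sf p.uf
    obtain ⟨z, hz, hz0⟩ : ∃ z ∈ perp S.QK (Submodule.span K {u, f} ⊔ Submodule.span K {y}), z ≠ 0 :=
      Submodule.exists_mem_ne_zero_of_ne_bot fun h => by
        have h1 := S.nd.finrank_add_perp (Submodule.span K {u, f} ⊔ Submodule.span K {y})
        rw [h, finrank_bot] at h1
        have h2 := Submodule.finrank_add_le_finrank_add_finrank (Submodule.span K {u, f}) (Submodule.span K {y})
        rw [finrank_span_singleton hy0, finrank_hyperbolic_plane p.su p.sf p.uf] at h2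
        omega
    rw [perp_sup, Submodule.mem_inf, mem_perp_span_pair, mem_perp_span_singleton] at hz
    exact ⟨z, hz.1.1, hz.1.2, hz.2, hz0⟩
  have hzy : S.B z y = 0 := by rw [EStr.B, polar_comm]; exact hyz
  have hzu : S.B z u = 0 := by rw [EStr.B, polar_comm]; exact huz
  have hzf : S.B z f = 0 := by rw [EStr.B, polar_comm]; exact hfz
  have hd : S.QK z ≠ 0 := fun h => hz0 (haniso z huz hfz h)
  have hfzt : ∀ t : K, S.B f (t • z) = 0 := fun t => by rw [EStr.B, polar_smul_right', ← EStr.B, hfz, mul_zero]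
  have hstep : ∀ t : K, SIn X y ((-(t ^ 2 * S.QK z)) • f - t • z) := fun t => by
    have e1 : (S.E f (t • z) p.sf (hfzt t) : V ≃ₗ[F] V) y = y := by
      rw [EStr.E_app_perp _ _ _ hfy, EStr.B, polar_smul_left', ← EStr.B, hzy, mul_zero, zero_smul, add_zero]
    refine (EStr.SIn_conj_fix hhu (hX.E_mem p.sf (hfzt t)) e1).congr rfl ?_
    rw [EStr.E_app, qmap_smul, p.fu, EStr.B, polar_smul_left', show polar S.QK z u = 0 from hzu,
      one_smul, mul_zero, zero_sub, mul_one]
    abel
  have hf : ∀ k : K, SIn X y (k • f) := by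
    have h0 : -(2 * S.QK z) ≠ 0 := neg_ne_zero.2 (mul_ne_zero S.two hd)
    let G : AddSubgroup K :=
      { carrier := {k | SIn X y ((k * -(2 * S.QK z)) • f)}
        add_mem' := fun {a b} ha hb => (ha.add hb).congr rfl (by rw [← add_smul, add_mul])
        zero_mem' := (sIn_zero hQy).congr rfl (by rw [zero_mul, zero_smul])
        neg_mem' := fun {a} ha => ha.neg.congr rfl (by rw [← neg_smul, neg_mul]) }
    intro k
    have := EStr.squares_top G (fun s => ((hstep s).add (hstep (-s))).congr rfl (by module)) S.two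
      (k / -(2 * S.QK z))
    exact this.congr rfl (by rw [div_mul_cancel₀ k h0])
  have hz : ∀ k : K, SIn X y (k • z) := fun k =>
    ((hstep (-k)).add (hf ((-k) ^ 2 * S.QK z))).congr rfl (by module)
  have hu : ∀ k : K, SIn X y (k • u) := by
    intro k
    have e1 : (S.E u z p.su huz : V ≃ₗ[F] V) y = y := by
      rw [EStr.E_app_perp _ _ _ huy, hzy, zero_smul, add_zero]
    refine ((EStr.SIn_conj_fix (hf (-(k / S.QK z))) (hX.E_mem p.su huz) e1).add (hz (-(k / S.QK z)))).congr rfl ?_
    rw [EStr.E_semi, EStr.E_app, p.uf, show S.B z f = 0 from hzf, zero_sub, mul_one, one_smul]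
    have hk : k = k / S.QK z * S.QK z := (div_mul_cancel₀ k hd).symm
    conv_rhs => rw [hk]
    module
  have hfull : H98.OrthMax.Full X y := by
    intro w _ hw
    obtain ⟨r, hru, hrf, hwd⟩ := p.dec w
    set α := S.B z r / (2 * S.QK z) with hα
    set c := S.B y r / (2 * S.QK y) with hc'
    have hr0 : r - α • z - c • y = 0 := by
      set T := Submodule.span K ({u, f} : Set V) ⊔ (Submodule.span K {y} ⊔ Submodule.span K {z}) with hT
      have hTtop : T = ⊤ := by
        refine Submodule.eq_top_of_finrank_eq (le_antisymm (Submodule.finrank_le _) ?_)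
        have h1 := Submodule.finrank_sup_add_finrank_inf_eq (Submodule.span K {u, f})
          (Submodule.span K {y} ⊔ Submodule.span K {z})
        have h2 := Submodule.finrank_sup_add_finrank_inf_eq (Submodule.span K {y}) (Submodule.span K {z})
        have i2 : Submodule.span K {y} ⊓ Submodule.span K {z} = ⊥ := (Submodule.eq_bot_iff _).2 fun x hx => by
          obtain ⟨a, rfl⟩ := Submodule.mem_span_singleton.1 hx.1
          obtain ⟨b, hb⟩ := Submodule.mem_span_singleton.1 hx.2
          have := congrArg (S.B y) hb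
          simp only [EStr.B, polar_smul_right', show polar S.QK y z = 0 from hyz, mul_zero, polar_self'] at this
          rw [(mul_eq_zero.1 this.symm).resolve_right (mul_ne_zero S.two hc), zero_smul]
        have i1 : Submodule.span K {u, f} ⊓ (Submodule.span K {y} ⊔ Submodule.span K {z}) = ⊥ :=
          (Submodule.eq_bot_iff _).2 fun x hx => by
            obtain ⟨a, b, rfl⟩ := Submodule.mem_span_pair.1 hx.1
            obtain ⟨y', hy', z', hz', e⟩ := Submodule.mem_sup.1 hx.2
            obtain ⟨s, rfl⟩ := Submodule.mem_span_singleton.1 hy'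
            obtain ⟨t, rfl⟩ := Submodule.mem_span_singleton.1 hz'
            have h3 := congrArg (S.B u) e
            have h4 := congrArg (S.B f) e
            simp only [EStr.B, polar_add_right, polar_smul_right', show polar S.QK u y = 0 from huy,
              show polar S.QK u z = 0 from huz, show polar S.QK u u = 0 from p.uu,
              show polar S.QK u f = 1 from p.uf, mul_zero, mul_one, add_zero, zero_add] at h3
            simp only [EStr.B, polar_add_right, polar_smul_right', show polar S.QK f y = 0 from hfy,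
              show polar S.QK f z = 0 from hfz, show polar S.QK f u = 1 from p.fu,
              show polar S.QK f f = 0 from p.ff, mul_zero, mul_one, add_zero] at h4
            rw [← h3, ← h4, zero_smul, zero_smul, add_zero]
        rw [i1, finrank_bot, finrank_hyperbolic_plane p.su p.sf p.uf, ← hT] at h1
        rw [i2, finrank_bot, finrank_span_singleton hy0, finrank_span_singleton hz0] at h2
        omega
      refine S.nd _ fun x => ?_
      obtain ⟨x₁, hx₁, x₂, hx₂, rfl⟩ := Submodule.mem_sup.1 (hTtop ▸ Submodule.mem_top : x ∈ T)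
      obtain ⟨a, b, rfl⟩ := Submodule.mem_span_pair.1 hx₁
      obtain ⟨y', hy', z', hz', rfl⟩ := Submodule.mem_sup.1 hx₂
      obtain ⟨s, rfl⟩ := Submodule.mem_span_singleton.1 hy'
      obtain ⟨t, rfl⟩ := Submodule.mem_span_singleton.1 hz'
      simp only [polar_add_right, polar_sub_left, polar_smul_left', polar_smul_right', polar_comm (⇑S.QK) r u,
        polar_comm (⇑S.QK) r f, polar_comm (⇑S.QK) r y, polar_comm (⇑S.QK) r z, show polar S.QK u r = 0 from hru,
        show polar S.QK f r = 0 from hrf, show polar S.QK z u = 0 from hzu, show polar S.QK z f = 0 from hzf,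
        show polar S.QK z y = 0 from hzy, show polar S.QK y u = 0 from hyu, show polar S.QK y f = 0 from hyf,
        show polar S.QK y z = 0 from hyz, polar_self', hα, hc', EStr.B]
      have := S.two
      field_simp
      ring
    -- the coefficient along `y` lies in the ground field
    obtain ⟨c₀, hc₀⟩ : ∃ c₀ : F, algebraMap F K c₀ = c := by
      have hker : S.τ (c * (2 * S.QK y)) = 0 := by
        have h1 : S.B y w = c * (2 * S.QK y) := by
          rw [hc', div_mul_cancel₀ _ (mul_ne_zero S.two hc), hwd, EStr.B, polar_add_right, polar_add_right,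
            polar_smul_right', polar_smul_right', show polar S.QK y u = 0 from hyu,
            show polar S.QK y f = 0 from hyf]
          ring
        rw [← h1, ← S.f_eq]; exact hw
      have h2 : S.τ (2 * S.QK y) = 0 := by rw [two_mul, map_add, ← S.comp, hQy, add_zero]
      have h3 : finrank F (LinearMap.ker S.τ) ≤ 1 := by
        have h4 := LinearMap.finrank_range_add_finrank_ker S.τ
        have h5 : 1 ≤ finrank F (LinearMap.range S.τ) := by
          rw [Nat.one_le_iff_ne_zero]
          exact fun h0 => S.τ_ne (LinearMap.range_eq_bot.1 (Submodule.finrank_eq_zero.1 h0))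
        omega
      have h6 : LinearMap.ker S.τ ≤ Submodule.span F {2 * S.QK y} :=
        (Submodule.eq_of_le_of_finrank_le (by simpa using h2)
          (by rw [finrank_span_singleton (mul_ne_zero S.two hc)]; exact h3)).ge
      obtain ⟨c₀, hc₀⟩ := Submodule.mem_span_singleton.1 (h6 (LinearMap.mem_ker.2 hker))
      refine ⟨c₀, mul_right_cancel₀ (mul_ne_zero S.two hc) ?_⟩
      rw [← hc₀, Algebra.smul_def]
    obtain ⟨_, _, hm'⟩ :=
      ((((hu (S.B f w)).add (hf (S.B u w))).add (hz α)).add_smul c₀).congr rfl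
        (show S.B f w • u + S.B u w • f + α • z + c₀ • y = w by
          rw [← algebraMap_smul K c₀ y, hc₀]
          conv_rhs => rw [hwd, ← sub_add_cancel r (α • z + c • y), ← sub_sub, hr0, zero_add]
          abel)
    exact hm'
  -- a second centre
  have huyt : ∀ t : K, S.B u (t • y) = 0 := fun t => by rw [EStr.B, polar_smul_right', ← EStr.B, huy, mul_zero]
  have hfyt : ∀ t : K, S.B f (t • y) = 0 := fun t => by rw [EStr.B, polar_smul_right', ← EStr.B, hfy, mul_zero]
  obtain ⟨k, hk⟩ := S.exists_tau_ne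
  set c := S.QK y with hcd
  obtain ⟨s, hs⟩ : ∃ s : K, 2 * c * (1 - 2 * c * s) = k := by
    have := S.two
    exact ⟨(1 - k / (2 * c)) / (2 * c), by field_simp; ring⟩
  have hmap := (hfull.map (hX.E_mem p.su (huyt 1))).map (hX.E_mem p.sf (hfyt s))
  refine H98.OrthMax.sieGroup_le_of_pair S.nondeg ?_ hfull hmap hQy (by rw [O.map_app, O.map_app]; exact hQy) ?_
  · have hn := Module.finrank_mul_finrank F K V
    rw [hm, hr] at hn
    omega
  have hEy : (S.E u ((1 : K) • y) p.su (huyt 1) : V ≃ₗ[F] V) y = y + (2 * c) • u := by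
    rw [EStr.E_app_perp _ _ _ huy, EStr.B, one_smul, polar_self']
  rw [hEy, S.f_eq, map_add, EStr.E_semi, EStr.E_app_perp _ _ _ hfy, EStr.E_app]
  simp only [EStr.B, polar_add_right, polar_sub_right, polar_smul_right', polar_smul_left', polar_self', qmap_smul,
    show polar S.QK y f = 0 from hyf, show polar S.QK y u = 0 from hyu, show polar S.QK f u = 1 from p.fu,
    ← hcd]
  convert hk using 2
  rw [← hs]
  ring_nf

/-- An overgroup of the isometries linear over a quadratic field with an element that is not semilinear contains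
every Eichler transformation. -/
theorem sieGroup_le_two (hm : finrank K V = 4) (hr : finrank F K = 2)
    (haniso : ∀ u z, S.QK u = 0 → S.QK z = 0 → S.B u z = 0 → u ≠ 0 → ∃ k : K, z = k • u)
    (hX : S.Over X) {g : O Q} (hg : g ∈ X) (hns : ¬Semi K g) : sieGroup Q ≤ X := by
  have : Finite K := Module.finite_of_finite F
  have hn := Module.finrank_mul_finrank F K V
  rw [hm, hr] at hn
  obtain ⟨h, hh, u₀, f₀, p₀, hfix, hne⟩ :
      ∃ h ∈ X, ∃ u f, S.Pair u f ∧ (h : V ≃ₗ[F] V) u = u ∧ ¬KeepsLine K h u := by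
    obtain ⟨u, hu0, hu, hgu⟩ := EStr.exists_sing_image (S := S) (by omega) g
    by_cases hk : KeepsLine K g u
    swap
    · exact EStr.exists_fix_nonline (by omega) hX hg hu0 hu hgu hk
    obtain ⟨n, hn', hnu⟩ :=
      EStr.exists_map (S := S) (by omega) hgu (fun h0 => hu0 ((g : V ≃ₗ[F] V).map_eq_zero_iff.1 h0)) hu hu0
    obtain ⟨f, p⟩ := EStr.exists_pair hu hu0
    have hkl : KeepsLine K (S.res n * g) u := fun k => by
      obtain ⟨k', hk'⟩ := hk k
      exact ⟨k', by rw [Subgroup.coe_mul, mul_app, mul_app, hk', EStr.res_app, EStr.res_app, map_smul]⟩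
    obtain ⟨h', hh', σ, e, C, hC, hs⟩ := EStr.exists_shape (by omega) hX (X.mul_mem (hX.res_mem hn') hg) p
      (by rw [Subgroup.coe_mul, mul_app, EStr.res_app, hnu]) hkl (fun h => hns (semi_res_mul h))
    obtain ⟨g', hg', w, hw0, hw, hw', hwk⟩ := move_any (by omega) hX hs p hh' hC
    exact EStr.exists_fix_nonline (by omega) hX hg' hw0 hw hw' hwk
  obtain ⟨u, x, hu0, hu, hQx, hux, hxu, hin⟩ :=
    EStr.exists_root (by omega) (by rw [hr]; exact Nat.prime_two) hX p₀ (EStr.good_of_four hX p₀ (by omega)) hh hfix hne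
  obtain ⟨f, p⟩ := EStr.exists_pair hu hu0
  have hl := EStr.sIn_line hX p hin hux hxu
  refine sieGroup_le_of_line hm hr hX p (fun z h1 h2 h3 => ?_) (hin.sub (hl (S.B f x))) ?_ ?_ ?_ ?_
  · obtain ⟨k, rfl⟩ := haniso u z hu h3 h1 hu0
    rw [p.Bf_smul_u] at h2
    rw [h2, zero_smul]
  · have hux' : polar Q u x = 0 := by rw [S.f_eq, hux, map_zero]
    rw [qmap_sub, hQx, S.sing (S.sing_smul hu _), S.f_eq, EStr.B, polar_smul_right', polar_comm,
      show polar S.QK u x = 0 from hux, mul_zero, map_zero]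
    ring
  · rw [EStr.B, polar_sub_right, ← EStr.B, ← EStr.B, p.Bu_smul_u, hux, sub_zero]
  · rw [EStr.B, polar_sub_right, ← EStr.B, ← EStr.B, p.Bf_smul_u, sub_self]
  · exact fun h => hxu _ (sub_eq_zero.1 h)

section

open scoped Matrix

variable {F : Type*} [Field F] [Fintype F] {ι : Type} [Fintype ι] [DecidableEq ι]

/-- Maximality of the normaliser in Ω of a self-adjoint quadratic field in dimension eight, minus type. -/
theorem isMaximalIn_ext_two (Q : QuadraticForm F (ι → F)) (hQ : Nondeg Q) (hodd : Odd (Fintype.card F))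
    (K : Subalgebra F (Matrix ι ι F)) (hK : Cfsg.Geo.IsFieldSubalgebra 2 K)
    (hsa : Cfsg.Geo.IsSelfAdjointFor (QuadraticMap.polar ⇑Q) K) (hn8 : finrank F (ι → F) = 8)
    (hminus : ∀ T : Submodule F (ι → F), TotSing Q T → finrank F T ≠ 4) :
    Cfsg.Geo.IsMaximalIn (Cfsg.Geo.omegaGL ⇑Q) (Cfsg.Geo.subalgebraNormalizer K ⊓ Cfsg.Geo.omegaGL ⇑Q) := by
  classical
  have hr : Nat.Prime 2 := Nat.prime_two
  have hn5 : 5 ≤ finrank F (ι → F) := by omega
  have : Nonempty ι := by
    by_contra h
    rw [not_nonempty_iff] at h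
    rw [Module.finrank_fintype_fun_eq_card, Fintype.card_eq_zero] at hn8
    omega
  have hfield : IsField K :=
    { exists_pair_ne := ⟨0, 1, fun h => zero_ne_one (congrArg Subtype.val h : (0 : Matrix ι ι F) = 1)⟩
      mul_comm := fun a b => Subtype.ext (hK.comm _ a.2 _ b.2)
      mul_inv_cancel := fun {a} ha => by
        obtain ⟨y, hy, h⟩ := hK.inv a.1 a.2 (fun h => ha (Subtype.ext h))
        exact ⟨⟨y, hy⟩, Subtype.ext h⟩ }
  letI : Field K := hfield.toField
  let eA : Matrix ι ι F ≃ₐ[F] Module.End F (ι → F) := Matrix.toLinAlgEquiv'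
  let ρ : K →ₐ[F] Module.End F (ι → F) := eA.toAlgHom.comp K.val
  letI hmod : Module K (ι → F) := Module.compHom (ι → F) ρ.toRingHom
  have hsmul : ∀ (k : K) (x : ι → F), k • x = (k : Matrix ι ι F) *ᵥ x := fun k x => rfl
  haveI : @IsScalarTower F K (ι → F) Algebra.toSMul
      hmod.toDistribMulAction.toDistribSMul.toSMulZeroClass.toSMul _ := ⟨fun c k x => by
    show ((c • k : K) : Matrix ι ι F) *ᵥ x = c • ((k : Matrix ι ι F) *ᵥ x)
    exact Matrix.smul_mulVec c _ x⟩
  haveI : FiniteDimensional F K := Module.finite_of_finrank_pos (by rw [hK.finrank_eq]; exact hr.pos)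
  haveI : FiniteDimensional K (ι → F) := Module.Finite.of_restrictScalars_finite F K (ι → F)
  have h2F : (2 : F) ≠ 0 := Ring.two_ne_zero fun h => by
    have := FiniteField.even_card_of_char_two h
    have := Nat.odd_iff.1 hodd
    omega
  have h2K : (2 : K) ≠ 0 := fun h => h2F ((algebraMap F K).injective (by rw [map_ofNat, map_zero, h]))
  -- the form over the field
  obtain ⟨τ, hτ⟩ : ∃ τ : K →ₗ[F] F, τ ≠ 0 := by
    obtain ⟨τ, h1, -⟩ := Submodule.exists_dual_map_eq_bot_of_notMem (p := (⊥ : Submodule F K)) (x := (1 : K))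
      (by simp) inferInstance
    exact ⟨τ, fun h => h1 (by rw [h]; rfl)⟩
  have hsep : ∀ a : K, (∀ s : K, τ (s * a) = 0) → a = 0 := fun a h => by
    by_contra ha
    refine hτ (LinearMap.ext fun b => ?_)
    have := h (b * a⁻¹)
    rwa [mul_assoc, inv_mul_cancel₀ ha, mul_one] at this
  choose G hG _hG using fun v : ι → F => H98.ExtField.exists_factor (K := K) hτ (Q.polarBilin.flip v)
  have hGu : ∀ v u (s : K), τ (s * G v u) = polar Q (s • u) v := fun v u s => by
    rw [← polarBilin_apply', ← LinearMap.flip_apply, hG, map_smul, smul_eq_mul]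
  let B' : (ι → F) →ₗ[K] (ι → F) →ₗ[K] K :=
    { toFun := G
      map_add' := fun v v' => LinearMap.ext fun u => sub_eq_zero.1 (hsep _ fun s => by
        rw [LinearMap.add_apply, mul_sub, mul_add, map_sub, map_add, hGu, hGu, hGu, polar_add_right, sub_self])
      map_smul' := fun k v => LinearMap.ext fun u => sub_eq_zero.1 (hsep _ fun s => by
        rw [RingHom.id_apply, LinearMap.smul_apply, smul_eq_mul, mul_sub, map_sub, hGu, ← mul_assoc, hGu, mul_comm,
          mul_smul]
        simp only [hsmul]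
        rw [hsa k.1 k.2]
        exact sub_self _) }
  have hsymm : ∀ x y, B' x y = B' y x := fun x y => sub_eq_zero.1 (hsep _ fun s => by
    show τ (s * (G x y - G y x)) = 0
    rw [mul_sub, map_sub, hGu, hGu, hsmul, hsmul, hsa s.1 s.2, polar_comm, sub_self])
  let QK : QuadraticForm K (ι → F) := (2 : K)⁻¹ • LinearMap.BilinMap.toQuadraticMap B'
  have hQKB : ∀ x y, polar QK x y = B' x y := fun x y => by
    show polar ((2 : K)⁻¹ • ⇑(LinearMap.BilinMap.toQuadraticMap B')) x y = _
    rw [QuadraticMap.polar_smul, LinearMap.BilinMap.polar_toQuadraticMap, hsymm y x, smul_eq_mul]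
    field_simp
    ring
  let S : EStr Q K :=
    { QK := QK
      τ := τ
      τ_ne := hτ
      comp := fun x => by
        have h1 : τ (G x x) = polar Q x x := by simpa using hGu x x 1
        show Q x = τ ((2 : K)⁻¹ * B' x x)
        rw [show ((2 : K)⁻¹ * B' x x) = (2 : F)⁻¹ • B' x x by rw [Algebra.smul_def, map_inv₀, map_ofNat],
          map_smul, show B' x x = G x x from rfl, h1, polar_self', smul_eq_mul, inv_mul_cancel_left₀ h2F]
      nd := fun x hx => hQ x fun y => by
        have h1 := hGu x y 1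
        rw [one_mul, one_smul, polar_comm] at h1
        rw [← h1, show G x y = B' x y from rfl, ← hQKB, hx, map_zero]
      two := h2K }
  -- semilinear maps normalise the field
  have hnorm : ∀ x : O Q, Semi K x → H96.om Q x ∈ Cfsg.Geo.subalgebraNormalizer K := by
    intro x hx
    set g := H96.om Q x with hg
    have hmem : ∀ k ∈ K, (g : Matrix ι ι F) * k * ((g⁻¹ : GL ι F) : Matrix ι ι F) ∈ K := by
      intro k hk
      obtain ⟨k', hk'⟩ := hx ⟨k, hk⟩
      have hgk : (g : Matrix ι ι F) * k = (k' : Matrix ι ι F) * g := Matrix.ext_iff_mulVec.2 fun v => by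
        simp only [← Matrix.mulVec_mulVec, hg, H96.om_mulVec]
        exact hk' v
      rw [hgk, mul_assoc, ← Units.val_mul, mul_inv_cancel, Units.val_one, mul_one]
      exact k'.2
    intro k
    refine ⟨hmem k, fun hk => ?_⟩
    haveI : Finite K := Module.finite_of_finite F
    let φ : K → K := fun k => ⟨_, hmem k k.2⟩
    have hφ : Function.Surjective φ := Finite.injective_iff_surjective.1 fun k₁ k₂ e => Subtype.ext
      ((Units.mul_right_inj g).1 ((Units.mul_left_inj (g⁻¹)).1 (congrArg Subtype.val e)))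
    obtain ⟨⟨k', hk'⟩, e⟩ := hφ ⟨_, hk⟩
    exact (show k' = k from (Units.mul_right_inj g).1 ((Units.mul_left_inj (g⁻¹)).1 (congrArg Subtype.val e))) ▸ hk'
  have hnorm' : ∀ x : O Q, H96.om Q x ∈ Cfsg.Geo.subalgebraNormalizer K → Semi K x := by
    intro x hx k
    refine ⟨⟨_, (hx k.1).1 k.2⟩, fun v => ?_⟩
    show (x : (ι → F) ≃ₗ[F] (ι → F)) ((k : Matrix ι ι F) *ᵥ v) = ((H96.om Q x : Matrix ι ι F) * (k : Matrix ι ι F) *
      (((H96.om Q x)⁻¹ : GL ι F) : Matrix ι ι F)) *ᵥ (x : (ι → F) ≃ₗ[F] (ι → F)) v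
    simp only [← H96.om_mulVec, Matrix.mulVec_mulVec, mul_assoc, ← Units.val_mul, inv_mul_cancel, Units.val_one, mul_one]
  -- dimensions
  have hmul := Module.finrank_mul_finrank F K (ι → F)
  rw [hK.finrank_eq] at hmul
  have hm : finrank K (ι → F) = 4 := by omega
  refine H98.OrthMax.isMaximalIn_omega hQ hn5 _ ?_ fun X hXS ⟨g, hgX, hgS⟩ => ?_
  · have : Finite K := Module.finite_of_finite F
    obtain ⟨u, hu0, hu⟩ := S.nd.exists_singular (by omega)
    obtain ⟨f, p⟩ := EStr.exists_pair hu hu0
    obtain ⟨k, hk⟩ : ∃ k : K, ∀ c : F, k ≠ algebraMap F K c := by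
      by_contra hc
      push Not at hc
      have h1 : (⊤ : Submodule F K) ≤ Submodule.span F {(1 : K)} := fun k _ => by
        obtain ⟨c, rfl⟩ := hc k
        exact Submodule.mem_span_singleton.2 ⟨c, (Algebra.algebraMap_eq_smul_one c).symm⟩
      have h2 := Submodule.finrank_mono h1
      rw [finrank_top, finrank_span_singleton one_ne_zero, hK.finrank_eq] at h2
      have := hr.two_le
      omega
    obtain ⟨hu', hw, hT⟩ := S.exists_not_semi p hk
    exact ⟨_, H98.OrthMax.sie_mem_commutator hQ hn5 hu' hw, fun h => hT (hnorm' _ h)⟩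
  · refine sieGroup_le_two (S := S) hm hK.finrank_eq (fun u z hu hz huz hu0 => ?_)
      (fun s hs hlin => hXS s hs (hnorm s fun k => ⟨k, hlin k⟩)) hgX fun h => hgS (hnorm g h)
    by_contra hne
    push Not at hne
    set T := Submodule.span K {u, z} with hT
    refine hminus (T.restrictScalars F) (fun w hw => ?_) ?_
    · obtain ⟨a, b, rfl⟩ := Submodule.mem_span_pair.1 hw
      refine S.sing ?_
      rw [map_add_polar, qmap_smul, qmap_smul, polar_smul_left', polar_smul_right', hu, hz,
        show polar S.QK u z = 0 from huz]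
      ring
    · have hT2 : finrank K T = 2 := by
        have hli : LinearIndependent K ![u, z] := (LinearIndependent.pair_iff' hu0).2 fun k h => hne k h.symm
        have := finrank_span_eq_card hli
        rw [Matrix.range_cons, Matrix.range_cons, Matrix.range_empty, Set.union_empty, Set.singleton_union,
          Fintype.card_fin] at this
        exact this
      have hmul' := Module.finrank_mul_finrank F K T
      rw [hK.finrank_eq, hT2] at hmul'
      exact ((Submodule.restrictScalarsEquiv F K (ι → F) T).restrictScalars F).finrank_eq.trans hmul'.symm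

end

end Cfsg.Agent.H97.OmegaEight
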