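import Cfsg.Agent.H98.SubfieldOrth.Two
import Cfsg.Agent.H97.OmegaEight.SubPoints

/-!
Characteristic two in dimension at least eight: an overgroup element not preserving the rational structure yields
a new parameter.
-/

set_option autoImplicit false

namespace Cfsg.Agent.H97.OmegaEight.Sub

open QuadraticMap Module Cfsg.Agent.Orthogonal Cfsg.Agent.H98 Cfsg.Agent.H98.SubfieldOrth
open Cfsg.Agent.H98.SubfieldOrth.RatStr

variable {F V : Type*} [Field F] [AddCommGroup V] [Module F V] {Q : QuadraticForm F V} {F₀ : Subfield F}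
  {R : RatStr Q F₀} {X : Subgroup (O Q)}

/-- What is orthogonal to rational vectors is orthogonal to their span. -/
theorem orth_spanF {W : Submodule F₀ R.V₀} {c : R.V₀} (h : ∀ a ∈ W, polar R.Q₀ a c = 0) {p : V}
    (hp : p ∈ R.spanF W) : polar Q (c : V) p = 0 := by
  rw [spanF] at hp
  induction hp using Submodule.span_induction with
  | mem a ha =>
    obtain ⟨a, ha, rfl⟩ := ha
    rw [polar_comm]
    exact R.orth (h a ha)
  | zero => exact polar_zero_right ..
  | add p q _ _ hp hq => rw [polar_add_right, hp, hq, add_zero]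
  | smul s p _ hp => rw [polar_smul_right', hp, mul_zero]

/-- Subspaces of every smaller dimension. -/
theorem exists_le_finrank {K M : Type*} [Field K] [AddCommGroup M] [Module K M] (W : Submodule K M)
    [FiniteDimensional K W] {m : ℕ} (hm : m ≤ finrank K W) : ∃ W' ≤ W, finrank K W' = m := by
  set b := Module.finBasis K W
  refine ⟨(Submodule.span K (Set.range fun i : Fin m => b (Fin.castLE hm i))).map W.subtype,
    Submodule.map_subtype_le _ _, ?_⟩
  rw [Submodule.finrank_map_subtype_eq, finrank_span_eq_card, Fintype.card_fin]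
  exact b.linearIndependent.comp _ (Fin.castLE_injective hm)

variable [Finite F] [FiniteDimensional F V]

/-- In characteristic two the singular vectors of a totally isotropic space form a hyperplane of it. -/
theorem exists_singular_part (h20 : (2 : F₀) = 0) {W : Submodule F₀ R.V₀}
    (hW : ∀ x ∈ W, ∀ y ∈ W, polar R.Q₀ x y = 0) :
    ∃ W₀ ≤ W, TotSing R.Q₀ W₀ ∧ finrank F₀ W ≤ finrank F₀ W₀ + 1 ∧
      ∀ p ∈ R.spanF W, Q p = 0 → p ∈ R.spanF W₀ := by
  have := R.finiteDimensional
  have hsq : ∀ a : F₀, IsSquare a := isSquare_of_two_eq_zero h20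
  choose r hr using fun x : W => hsq (R.Q₀ x)
  have huniq : ∀ a b : F₀, a * a = b * b → a = b := fun a b hab => by
    have : (a - b) * (a - b) = 0 := by linear_combination hab + (b * b - a * b) * h20
    exact sub_eq_zero.1 (mul_self_eq_zero.1 this)
  let l : W →ₗ[F₀] F₀ :=
    { toFun := r
      map_add' := fun x y => huniq _ _ (by
        rw [← hr, Submodule.coe_add, map_add_polar, hW _ x.2 _ y.2, add_zero, hr x, hr y]
        linear_combination -(r x * r y) * h20)
      map_smul' := fun c x => huniq _ _ (by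
        rw [← hr, Submodule.coe_smul, qmap_smul, hr x, RingHom.id_apply, smul_eq_mul]
        ring) }
  refine ⟨(LinearMap.ker l).map W.subtype, Submodule.map_subtype_le _ _, ?_, ?_, ?_⟩
  · rintro _ ⟨x, hx, rfl⟩
    rw [W.subtype_apply, hr x, show r x = 0 from LinearMap.mem_ker.1 hx, mul_zero]
  · rw [Submodule.finrank_map_subtype_eq]
    have h1 := LinearMap.finrank_range_add_finrank_ker l
    have h2 := Submodule.finrank_le (LinearMap.range l)
    rw [finrank_self] at h2
    omega
  · intro p hp hQp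
    by_cases hl : ∀ x, l x = 0
    · refine Submodule.span_mono (Set.image_mono ?_) hp
      exact fun x hx => ⟨⟨x, hx⟩, LinearMap.mem_ker.2 (hl _), rfl⟩
    push Not at hl
    obtain ⟨b, hb⟩ := hl
    have hle : R.spanF W ≤ R.spanF ((LinearMap.ker l).map W.subtype) ⊔ Submodule.span F {((b : R.V₀) : V)} := by
      rw [spanF, Submodule.span_le]
      rintro _ ⟨x, hx, rfl⟩
      obtain ⟨k, hk⟩ : ∃ k : F₀, k = l ⟨x, hx⟩ / l b := ⟨_, rfl⟩
      have hmem : ((⟨x, hx⟩ - k • b : W) : R.V₀) ∈ (LinearMap.ker l).map W.subtype :=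
        ⟨⟨x, hx⟩ - k • b,
          LinearMap.mem_ker.2 (by rw [map_sub, map_smul, smul_eq_mul, hk, div_mul_cancel₀ _ hb, sub_self]), rfl⟩
      refine Submodule.mem_sup.2 ⟨_, coe_mem_spanF hmem, _,
        Submodule.smul_mem _ (k : F) (Submodule.mem_span_singleton_self _), ?_⟩
      rw [Submodule.coe_sub, Submodule.coe_smul, Submodule.coe_sub, R.coe_smul]
      exact sub_add_cancel _ _
    obtain ⟨p₀, hp₀, q, hq, rfl⟩ := Submodule.mem_sup.1 (hle hp)
    obtain ⟨c, rfl⟩ := Submodule.mem_span_singleton.1 hq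
    have hpz : ∀ z ∈ R.spanF ((LinearMap.ker l).map W.subtype), ∀ w ∈ W, polar Q (w : V) z = 0 := fun z hz w hw =>
      orth_spanF (fun a ha => hW a (Submodule.map_subtype_le W _ ha) w hw) hz
    have hpp : ∀ z ∈ R.spanF ((LinearMap.ker l).map W.subtype), ∀ z' ∈ R.spanF ((LinearMap.ker l).map W.subtype),
        polar Q z z' = 0 := by
      intro z hz z' hz'
      rw [spanF] at hz
      induction hz using Submodule.span_induction with
      | mem a ha =>
        obtain ⟨_, ⟨a, -, rfl⟩, rfl⟩ := ha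
        exact hpz z' hz' _ a.2
      | zero => exact polar_zero_left ..
      | add a a' _ _ i1 i2 => rw [polar_add_left, i1, i2, add_zero]
      | smul s a _ i1 => rw [polar_smul_left', i1, mul_zero]
    have hTS : ∀ z ∈ R.spanF ((LinearMap.ker l).map W.subtype), Q z = 0 := by
      intro z hz
      rw [spanF] at hz
      induction hz using Submodule.span_induction with
      | mem a ha =>
        obtain ⟨_, ⟨a, ha, rfl⟩, rfl⟩ := ha
        exact R.sing (by rw [W.subtype_apply, hr a, show r a = 0 from LinearMap.mem_ker.1 ha, mul_zero])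
      | zero => exact map_zero _
      | add z z' hz hz' h1 h1' => rw [map_add_polar, h1, h1', hpp z hz z' hz', add_zero, add_zero]
      | smul s z _ h1 => rw [qmap_smul, h1, mul_zero]
    have h1 := hTS p₀ hp₀
    have h3 := hpz p₀ hp₀
    rw [map_add_polar, qmap_smul, h1, polar_smul_right', polar_comm, h3 _ b.2, mul_zero, add_zero, zero_add,
      ← R.coe, mul_eq_zero, pow_eq_zero_iff two_ne_zero] at hQp
    rcases hQp with hc | hc
    · rw [hc, zero_smul, add_zero]; exact hp₀
    · refine absurd (huniq (r b) 0 ?_) hb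
      rw [← hr, mul_zero]
      exact Subtype.ext hc

variable (hQ : Nondeg Q) (h2 : (2 : F) = 0) (hn : 8 ≤ finrank F V) (hX : R.Over X) (hT : R.NoNew X)
  (hsmall : ∀ W : Submodule F₀ R.V₀, TotSing R.Q₀ W → finrank F₀ W ≤ 4 → 2 * finrank F₀ W < finrank F V)
include hQ h2 hn hX hT hsmall

set_option maxHeartbeats 800000 in
/-- No new parameters: every element of `X` preserves the rational structure up to a scalar. -/
theorem stab_of_noNew_two {g : O Q} (hg : g ∈ X) : R.Stab g := by
  have := R.finiteDimensional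
  have hO : Finite (O Q) := finite_O
  have hd0 : finrank F₀ R.V₀ = finrank F V := R.finrank_eq
  have h20 : (2 : F₀) = 0 := Subtype.ext h2
  have hsq : ∀ a : F₀, IsSquare a := isSquare_of_two_eq_zero h20
  -- rational from stable
  have hratEl : ∀ {a : O Q}, R.Stab a → R.RatEl a := fun {a} ha => by
    obtain ⟨c, hc, h⟩ := ha
    refine ratEl_of_stab hc ?_ h
    obtain ⟨d, hd⟩ := hsq ⟨c ^ 2, stab_sq (by omega) hc h⟩
    have hd' : c ^ 2 = (d : F) * d := congrArg Subtype.val hd
    have : (c - d) * (c - d) = 0 := by linear_combination hd' + ((d : F) * d - c * d) * h2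
    rw [mul_self_eq_zero, sub_eq_zero] at this
    exact this ▸ d.2
  -- a long and a short root involution
  obtain ⟨e, -, f, -, he, hf, hef, he0, C, -, hC, hdC, hCef⟩ :=
    exists_hyp R.nondeg (nondeg_restr_top R.nondeg) (by rw [finrank_top]; omega)
  rw [finrank_top] at hdC
  obtain ⟨x, hxC, y, hyC, hx, hy, hxy, hx0, C', hC'le, hC', hdC', hC'xy⟩ := exists_hyp R.nondeg hC (by omega)
  set w := x + y with hwdef
  have hwC : w ∈ C := C.add_mem hxC hyC
  have hw : R.Q₀ w = 1 := by rw [hwdef, map_add_polar, hx, hy, hxy]; ring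
  have hex : polar R.Q₀ e x = 0 := (hCef x hxC).1
  have hew : polar R.Q₀ e w = 0 := (hCef w hwC).1
  set r := sie (e : V) (x : V) (R.sing he) (R.orth hex) with hr
  set t := sie (e : V) (w : V) (R.sing he) (R.orth hew) with ht
  have h5 : 5 ≤ finrank F V := by omega
  have hrX : r ∈ X := (hX.sIn hQ h5 he hex).2.2
  have htX : t ∈ X := (hX.sIn hQ h5 he hew).2.2
  have hrr : r * r = 1 := sie_sq h2 _ _
  have htt : t * t = 1 := sie_sq h2 _ _
  have her : (e : V) ∈ mov r := by
    have h := mem_mov r (y : V)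
    rwa [hr, sie_app, R.one hxy, R.orth (hCef y hyC).1, R.sing hx, mul_zero, sub_zero, one_smul, zero_smul,
      sub_zero, add_sub_cancel_left] at h
  have het : (e : V) ∈ mov t := by
    have h := mem_mov t (y : V)
    have hwy : polar Q (w : V) (y : V) = 1 := R.one (by
      rw [hwdef, polar_add_left, hxy, polar_self', hy]; ring)
    rwa [ht, sie_app, hwy, R.orth (hCef y hyC).1, mul_zero, sub_zero, one_smul, zero_smul,
      sub_zero, add_sub_cancel_left] at h
  -- the centralisers of the two involutions preserve the structure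
  have hcr : ∀ {h : O Q}, h ∈ X → Commute h r → R.Stab h := fun {h} hh hc => by
    refine stab_of_perp hQ hn hX hT hh he0 he hC' (by omega) fun c hc' => ?_
    obtain ⟨a, b, hab⟩ := Submodule.mem_span_pair.1
      (mov_sie_le _ _ (map_mov_le hc.eq ⟨_, her, rfl⟩))
    rw [LinearEquiv.coe_coe] at hab
    rw [← hab, polar_add_right, polar_smul_right', polar_smul_right', polar_comm,
      R.orth (hCef c (hC'le hc')).1, polar_comm, R.orth (hC'xy c hc').1]
    ring
  have hct : ∀ {h : O Q}, h ∈ X → Commute h t → R.Stab h := fun {h} hh hc => by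
    refine stab_of_perp hQ hn hX hT hh he0 he hC (by omega) fun c hc' => ?_
    obtain ⟨a, b, hab⟩ := Submodule.mem_span_pair.1
      (mov_sie_le _ _ (map_mov_le hc.eq ⟨_, het, rfl⟩))
    rw [LinearEquiv.coe_coe] at hab
    have hb : b = 0 := by
      have h0 : Q ((h : V ≃ₗ[F] V) e) = 0 := by rw [O.map_app, R.sing he]
      rw [← hab, map_add_polar, qmap_smul, qmap_smul, polar_smul_left', polar_smul_right', R.sing he,
        R.orth hew, ← R.coe, hw, OneMemClass.coe_one] at h0
      exact pow_eq_zero_iff two_ne_zero |>.1 (by linear_combination h0)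
    rw [← hab, hb, zero_smul, add_zero, polar_smul_right', polar_comm, R.orth (hCef c hc').1, mul_zero]
  set r' := g * r * g⁻¹ with hr'
  have hr'X : r' ∈ X := mul_mem (mul_mem hg hrX) (inv_mem hg)
  have hr'r' : r' * r' = 1 := by
    rw [hr', show g * r * g⁻¹ * (g * r * g⁻¹) = g * (r * r) * g⁻¹ by group, hrr, mul_one, mul_inv_cancel]
  obtain ⟨j, hzz, hz1, hzt, hzr, hconj, -⟩ := exists_central htt hr'r' fun k hk => by
    -- the two are not conjugate
    have h1 : (g⁻¹ * k) * t = r * (g⁻¹ * k) := by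
      calc g⁻¹ * k * t = g⁻¹ * (k * t * k⁻¹) * k := by group
        _ = r * (g⁻¹ * k) := by rw [hk, hr']; group
    set k' := g⁻¹ * k with hk'
    obtain ⟨a, b, hab⟩ := Submodule.mem_span_pair.1 (mov_sie_le _ _ (map_mov_le h1 ⟨_, het, rfl⟩))
    obtain ⟨v, hv, hwv⟩ : ∃ v : V, polar Q (e : V) v = 1 ∧ polar Q (w : V) v = 0 :=
      ⟨f, R.one hef, R.orth (by rw [polar_comm]; exact (hCef w hwC).2)⟩
    have hmem := mov_sie_le _ _ (map_mov_le h1 ⟨_, mem_mov t v, rfl⟩)
    rw [ht, sie_app, hv, hwv, zero_sub, mul_one, one_smul, add_sub_assoc, add_sub_cancel_left,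
      LinearEquiv.coe_coe, map_sub, map_smul] at hmem
    have hwspan : (k' : V ≃ₗ[F] V) (w : V) ∈ Submodule.span F {(e : V), (x : V)} := by
      have hke : (k' : V ≃ₗ[F] V) (e : V) ∈ Submodule.span F {(e : V), (x : V)} :=
        Submodule.mem_span_pair.2 ⟨a, b, hab⟩
      have := Submodule.sub_mem _ (Submodule.smul_mem _ (-Q (w : V)) hke) hmem
      rwa [sub_sub_cancel] at this
    obtain ⟨a', b', hab'⟩ := Submodule.mem_span_pair.1 hwspan
    have h0 := O.map_app k' (w : V)
    rw [← hab', map_add_polar, qmap_smul, qmap_smul, polar_smul_left', polar_smul_right', R.sing he, R.sing hx,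
      R.orth hex, ← R.coe w, hw, OneMemClass.coe_one] at h0
    simp at h0
  set z := (t * r') ^ j with hz
  have hzX : z ∈ X := pow_mem (mul_mem htX hr'X) j
  have hzR : R.RatEl z := hratEl (hct hzX hzt)
  set z' := g⁻¹ * z * g with hz'
  have hgz : g * z' = z * g := by rw [hz']; group
  have hgz2 : g⁻¹ * z = z' * g⁻¹ := by rw [hz']; group
  have hz'X : z' ∈ X := mul_mem (mul_mem (inv_mem hg) hzX) hg
  have hz'r : Commute z' r := by
    show z' * r = r * z'
    rw [hz', show g⁻¹ * z * g * r = g⁻¹ * (z * r') * g by rw [hr']; group, hzr.eq, hr']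
    group
  have hz'R : R.RatEl z' := hratEl (hcr hz'X hz'r)
  -- small moved space
  have hk4 : finrank F (mov z) ≤ 4 := by
    have h1 : finrank F (mov (z * t)) ≤ 2 := by
      obtain ⟨k, hk | hk⟩ := hconj
      · refine le_trans (finrank_mov_conj (g := k⁻¹) (w := t) ?_) (finrank_mov_sie _ _)
        rw [← hk]; group
      · refine le_trans (finrank_mov_conj (g := g⁻¹ * k⁻¹) (w := r) ?_) (finrank_mov_sie _ _)
        rw [← hk, hr']; group
    have h3 : finrank F (mov t) ≤ 2 := finrank_mov_sie _ _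
    have h := Submodule.finrank_mono (mov_mul_le (z * t) t)
    rw [mul_assoc, htt, mul_one] at h
    have := Submodule.finrank_add_le_finrank_add_finrank (mov (z * t)) (mov t)
    omega
  have hgen : reflGroup Q = ⊤ := reflGroup_eq_top hQ (Or.inr (by omega))
  have heven : Even (finrank F (mov z)) := by
    have h1 : dicksonSign z = 1 := by
      have := hX.le hzX
      rwa [commutator_eq_ker_dickson hQ hgen h2, MonoidHom.mem_ker, dickson_apply] at this
    have h3 : mov z = perp Q (fixSpace z) := range_sub_eq_perp_fixSpace hQ z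
    have h4 := hQ.finrank_add_perp (fixSpace z)
    rw [dicksonSign, neg_one_pow_eq_one_iff_even (by decide)] at h1
    rw [h3]
    obtain ⟨m, hm⟩ := h1
    exact ⟨finrank F V - m, by omega⟩
  have hpos : 2 ≤ finrank F (mov z) := by
    rcases Nat.eq_zero_or_pos (finrank F (mov z)) with h0 | h0
    · refine absurd (O.ext_app fun v => ?_) hz1
      have := mem_mov z v
      rw [Submodule.finrank_eq_zero.1 h0, Submodule.mem_bot, sub_eq_zero] at this
      exact this
    · obtain ⟨m, hm⟩ := heven; omega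
  have hz'z' : z' * z' = 1 := by
    rw [hz', show g⁻¹ * z * g * (g⁻¹ * z * g) = g⁻¹ * (z * z) * g by group, hzz, mul_one, inv_mul_cancel]
  have hiso : ∀ {s : O Q} (hs : R.RatEl s), s * s = 1 → ∀ a ∈ mov₀ hs, ∀ b ∈ mov₀ hs, polar R.Q₀ a b = 0 := by
    intro s hs hss a' ha' b' hb'
    obtain ⟨a, rfl⟩ := ha'
    obtain ⟨b, rfl⟩ := hb'
    refine Subtype.ext ?_
    rw [R.polar_coe, ZeroMemClass.coe_zero]
    show polar Q ((s : V ≃ₗ[F] V) a - a) ((s : V ≃ₗ[F] V) b - b) = 0
    rw [polar_sub_left, polar_sub_right, polar_sub_right, O.polar_app, ← invol_polar hss]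
    linear_combination (polar Q (a : V) (b : V) - polar Q ((s : V ≃ₗ[F] V) a) (b : V)) * h2
  -- a singular rational vector moved by the preimage
  have hk' : finrank F₀ (mov₀ hz'R) = finrank F (mov z) := by
    rw [← finrank_spanF, ← mov_eq_spanF]
    exact le_antisymm (finrank_mov_conj hgz) (finrank_mov_conj hgz2)
  obtain ⟨u, hu, hu0, hus⟩ : ∃ u ∈ mov₀ hz'R, u ≠ 0 ∧ R.Q₀ u = 0 := by
    obtain ⟨a, ha, ha0⟩ := Submodule.exists_mem_ne_zero_of_ne_bot (p := mov₀ hz'R) fun h => by
      rw [h, finrank_bot] at hk'; omega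
    obtain ⟨b, hb, hba⟩ := SetLike.not_le_iff_exists.1 (show ¬ mov₀ hz'R ≤ Submodule.span F₀ {a} from fun h => by
      have := Submodule.finrank_mono h
      rw [finrank_span_singleton ha0] at this
      omega)
    by_cases hqa : R.Q₀ a = 0
    · exact ⟨a, ha, ha0, hqa⟩
    obtain ⟨d, hd⟩ := hsq (R.Q₀ b / R.Q₀ a)
    refine ⟨d • a + b, add_mem (Submodule.smul_mem _ _ ha) hb, fun h => hba ?_, ?_⟩
    · rw [eq_neg_of_add_eq_zero_right h]
      exact Submodule.neg_mem _ (Submodule.smul_mem _ _ (Submodule.mem_span_singleton_self a))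
    · rw [map_add_polar, qmap_smul, polar_smul_left', hiso hz'R hz'z' a ha b hb, pow_two d, ← hd,
        div_mul_cancel₀ _ hqa]
      linear_combination R.Q₀ b * h20
  -- a nondegenerate space orthogonal to the moved space
  set W := mov₀ hzR with hW
  have hdW : finrank F₀ W = finrank F (mov z) := by rw [← finrank_spanF, ← mov_eq_spanF]
  have hWle : W ≤ perp R.Q₀ W := fun a ha => (mem_perp R.Q₀).2 fun b hb => hiso hzR hzz b hb a ha
  obtain ⟨T, hT'⟩ := Submodule.exists_isCompl W
  have hdec : W ⊔ perp R.Q₀ W ⊓ T = perp R.Q₀ W := by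
    rw [inf_comm, ← sup_inf_assoc_of_le T hWle, hT'.sup_eq_top, top_inf_eq]
  have hCn : Nondeg (restr R.Q₀ (perp R.Q₀ W ⊓ T)) := by
    rw [nondeg_restr_iff]
    refine eq_bot_iff.2 fun a ha => ?_
    have haW : a ∈ perp R.Q₀ (perp R.Q₀ W) := by
      rw [← hdec, perp_sup]
      exact ⟨ha.1.1, ha.2⟩
    rw [R.nondeg.perp_perp] at haW
    exact hT'.disjoint.le_bot ⟨haW, ha.1.2⟩
  have hdims := Submodule.finrank_sup_add_finrank_inf_eq W (perp R.Q₀ W ⊓ T)
  rw [hdec, show W ⊓ (perp R.Q₀ W ⊓ T) = ⊥ from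
    eq_bot_iff.2 fun a ha => hT'.disjoint.le_bot ⟨ha.1, ha.2.2⟩, finrank_bot] at hdims
  have hperp := R.nondeg.finrank_add_perp W
  have hmem : (g : V ≃ₗ[F] V) (u : V) ∈ mov z :=
    map_mov_le hgz ⟨_, (mov_eq_spanF hz'R).symm ▸ coe_mem_spanF hu, rfl⟩
  rw [mov_eq_spanF hzR] at hmem
  by_cases hk3 : finrank F₀ W ≤ 2
  · refine stab_of_perp hQ hn hX hT hg hu0 hus hCn (by omega) fun c hc => ?_
    exact orth_spanF (fun a ha => (mem_perp R.Q₀).1 hc.1 a ha) hmem
  -- the singular part of the moved space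
  obtain ⟨W₀, hW₀le, hW₀s, hW₀d, hW₀p⟩ := exists_singular_part h20 (W := W)
    (fun x hx y hy => hiso hzR hzz x hx y hy)
  have hd4 : finrank F₀ W ≤ 4 := hdW ▸ hk4
  obtain ⟨a₀, ha₀, b₀, hb₀, hab₀⟩ : ∃ a₀ ∈ perp R.Q₀ W₀, ∃ b₀ ∈ perp R.Q₀ W₀, polar R.Q₀ a₀ b₀ = 1 := by
    by_contra hc
    push Not at hc
    have hle : perp R.Q₀ W₀ ≤ perp R.Q₀ (perp R.Q₀ W₀) := fun x hx => (mem_perp R.Q₀).2 fun y hy => by
      by_contra hne
      exact hc y hy ((polar R.Q₀ y x)⁻¹ • x) (Submodule.smul_mem _ _ hx)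
        (by rw [polar_smul_right', inv_mul_cancel₀ hne])
    rw [R.nondeg.perp_perp] at hle
    have h1 := Submodule.finrank_mono hle
    have h2 := R.nondeg.finrank_add_perp W₀
    have h3 := Submodule.finrank_mono hW₀le
    -- the singular part is too small to be its own orthogonal
    have h4 : TotSing R.Q₀ W₀ := hW₀s
    have h5 := hsmall W₀ h4 (h3.trans hd4)
    omega
  obtain ⟨p, hp⟩ : ∃ p, p = (g : V ≃ₗ[F] V) (u : V) := ⟨_, rfl⟩
  rw [← hp] at hmem
  have hpQ : Q p = 0 := by rw [hp, O.map_app, R.sing hus]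
  have hpW₀ := hW₀p p hmem hpQ
  have horth : ∀ c ∈ perp R.Q₀ W₀, polar Q (c : V) p = 0 := fun c hc =>
    orth_spanF (fun a ha => (mem_perp R.Q₀).1 hc a ha) hpW₀
  obtain ⟨W₁, hW₁le, hW₁d⟩ := exists_le_finrank W₀ (m := 3) (by obtain ⟨m, hm⟩ := heven; omega)
  obtain ⟨a, ha, hay⟩ := rational_point_three hQ hn hX hT hg hu0 hus (W := W₁) (fun x hx => hW₀s x (hW₁le hx))
    (by omega) (perp_anti R.Q₀ hW₁le ha₀) (perp_anti R.Q₀ hW₁le hb₀) hab₀
    (fun c hc => by
      rw [← hp]
      exact horth c ((mem_perp R.Q₀).2 fun w hw => TotSing.polar_eq hW₀s hw (hW₁le hc)))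
    (by rw [← hp]; exact horth _ ha₀) (by rw [← hp]; exact horth _ hb₀)
  exact stab_of_point hQ hn hX hT hg hu0 hus ha hay

end Cfsg.Agent.H97.OmegaEight.Sub
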