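import Cfsg.Agent.H97.OmegaEight.SubParam
import Cfsg.Agent.H97.OmegaEight.SubTwo
import Cfsg.Agent.H97.OmegaEight.SubOdd
import Cfsg.Agent.H98.SubfieldOrth.Main

/-!
Maximality of subfield groups of odd prime index in dimension eight, minus type.
-/

set_option autoImplicit false

namespace Cfsg.Agent.H97.OmegaEight

open QuadraticMap Module Cfsg.Agent.Orthogonal Cfsg.Agent.H98.SubfieldOrth Cfsg.Agent.H98
open Cfsg.Agent.H98.SubfieldOrth.RatStr
open scoped Matrix

variable {F : Type*} [Field F] [Fintype F] {ι : Type} [Fintype ι] [DecidableEq ι]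

/-- In an extension of odd degree a square root of an element of the small field lies in it. -/
theorem mem_of_sq_mem {F₀ : Subfield F} {r : ℕ} (hrodd : Odd r) (hcard : Fintype.card F = Nat.card F₀ ^ r)
    (c : F) (h : c ^ 2 ∈ F₀) : c ∈ F₀ := by
  classical
  have : Fintype F₀ := Fintype.ofFinite _
  rw [Nat.card_eq_fintype_card] at hcard
  set q := Fintype.card F₀ with hq
  have hq1 : 1 < q := Fintype.one_lt_card
  rcases eq_or_ne c 0 with rfl | hc
  · exact F₀.zero_mem
  set ε := c ^ (q - 1) with hεdef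
  have hc2 : (⟨c ^ 2, h⟩ : F₀) ≠ 0 := fun e => pow_ne_zero 2 hc (congrArg Subtype.val e)
  have hsq : ε * ε = 1 := by
    rw [hεdef, ← pow_add, ← two_mul, pow_mul]
    simpa using congrArg Subtype.val (FiniteField.pow_card_sub_one_eq_one (⟨c ^ 2, h⟩ : F₀) hc2)
  have hεq : ε ^ q = ε := by
    have hm : ε ∈ F₀ := by
      rcases mul_self_eq_one_iff.1 hsq with e | e <;> rw [e]
      · exact F₀.one_mem
      · exact F₀.neg_mem F₀.one_mem
    simpa using congrArg Subtype.val (FiniteField.pow_card (⟨ε, hm⟩ : F₀))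
  have hstep : c ^ q = ε * c := by rw [hεdef, ← pow_succ, Nat.sub_add_cancel hq1.le]
  have hit : ∀ i : ℕ, c ^ q ^ i = ε ^ i * c := by
    intro i
    induction i with
    | zero => simp
    | succ i ih => rw [pow_succ, pow_mul, ih, mul_pow, ← pow_mul, mul_comm i q, pow_mul, hεq, hstep, pow_succ]; ring
  obtain ⟨k, hk⟩ := hrodd
  have h1 := hit r
  rw [← hcard, FiniteField.pow_card, hk, pow_succ, pow_mul, pow_two, hsq, one_pow, one_mul] at h1
  exact mem_of_pow_card F₀ (hstep.trans h1.symm)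

/-- In characteristic two totally singular rational spaces have less than half the dimension. -/
theorem small_of_minus {Q : QuadraticForm F (ι → F)} {F₀ : Subfield F} {R : RatStr Q F₀} (hQ : Nondeg Q)
    (h2 : (2 : F) = 0) (hd : finrank F (ι → F) = 8)
    (hhalf : ∀ T : Submodule F (ι → F), TotSing Q T → finrank F T ≠ 4)
    (W : Submodule F₀ R.V₀) (hW : TotSing R.Q₀ W) : 2 * finrank F₀ W < finrank F (ι → F) := by
  have := R.finiteDimensional
  have hQ0 : ∀ x ∈ W, Q (x : ι → F) = 0 := fun x hx => R.sing (hW x hx)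
  have hp : ∀ a ∈ R.spanF W, ∀ b ∈ R.spanF W, polar Q a b = 0 := fun a ha b hb => by
    rw [spanF] at ha hb
    induction ha using Submodule.span_induction with
    | mem x hx =>
      induction hb using Submodule.span_induction with
      | mem y hy =>
        obtain ⟨x, hx, rfl⟩ := hx
        obtain ⟨y, hy, rfl⟩ := hy
        have h3 := hQ0 _ (W.add_mem hx hy)
        rw [Submodule.coe_add, map_add_polar, hQ0 _ hx, hQ0 _ hy, zero_add, zero_add] at h3
        exact h3
      | zero => exact polar_zero_right ..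
      | add p q _ _ h3 h4 => rw [polar_add_right, h3, h4, add_zero]
      | smul c p _ h3 => rw [polar_smul_right', h3, mul_zero]
    | zero => exact polar_zero_left ..
    | add p q _ _ h3 h4 => rw [polar_add_left, h3, h4, add_zero]
    | smul c p _ h3 => rw [polar_smul_left', h3, mul_zero]
  have hT : TotSing Q (R.spanF W) := fun a ha => by
    have hmem := ha
    rw [spanF] at ha
    induction ha using Submodule.span_induction with
    | mem x hx => obtain ⟨x, hx, rfl⟩ := hx; exact hQ0 _ hx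
    | zero => exact QuadraticMap.map_zero _
    | add p q hp' hq' h3 h4 =>
      rw [map_add_polar, h3 hp', h4 hq', hp p hp' q hq', add_zero, add_zero]
    | smul c p hp' h3 => rw [qmap_smul, h3 hp']; ring
  have h5 := hT.two_mul_finrank_le hQ
  have h6 := hhalf _ hT
  rw [finrank_spanF] at h5 h6
  omega

variable (F₀ : Subfield F) (P : GL ι F) (Q : QuadraticForm F (ι → F))

/-- Maximality of the subfield group in Ω. -/
theorem isMaximalIn_subfield (hQ : Nondeg Q) (hn : Fintype.card ι = 8) (r : ℕ) (hr : r.Prime) (hrodd : Odd r)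
    (hcard : Fintype.card F = Nat.card F₀ ^ r) (hhalf : ∀ T : Submodule F (ι → F), TotSing Q T → finrank F T ≠ 4)
    (hP : Cfsg.Geo.IsQuadFormRationalStructure (⇑Q) F₀ P) :
    Cfsg.Geo.IsMaximalIn (Cfsg.Geo.omegaGL ⇑Q) (Cfsg.Geo.subfieldSubgroup F₀ P ⊓ Cfsg.Geo.omegaGL ⇑Q) := by
  obtain ⟨R, hR⟩ := exists_ratStr F₀ P Q hQ hP
  have hd : finrank F (ι → F) = 8 := by rwa [Module.finrank_fintype_fun_eq_card]
  have hd0 : finrank F₀ R.V₀ = finrank F (ι → F) := R.finrank_eq
  have hmax := subfield_cases hr hcard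
  have := R.finiteDimensional
  have hmem : ∀ x : O Q, H96.om Q x ∈ Cfsg.Geo.subfieldSubgroup F₀ P ↔ R.Stab x := fun x => by
    rw [mem_subfieldSubgroup_iff]
    refine exists_congr fun c => and_congr_right fun _ => ?_
    rw [hR]
    refine forall₂_congr fun v _ => ?_
    rw [H96.om_mulVec]
  refine ⟨lt_of_le_not_ge inf_le_right fun h => ?_, fun M hM hMG => ?_⟩
  · obtain ⟨e, -, f, -, he, hf, hef, he0, C, -, hC, hdC, hCef⟩ :=
      exists_hyp R.nondeg (nondeg_restr_top R.nondeg) (by rw [finrank_top]; omega)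
    rw [finrank_top] at hdC
    obtain ⟨x, hxC, y, hyC, hx, -, hxy, -⟩ := exists_hyp R.nondeg hC (by omega)
    obtain ⟨a, ha⟩ : ∃ a : F, a ∉ F₀ := by
      by_contra hc
      push Not at hc
      have h1 : Nat.card F₀ = Fintype.card F := by
        rw [← Nat.card_eq_fintype_card]
        exact Nat.card_congr (Equiv.subtypeUnivEquiv hc)
      rw [h1] at hcard
      have h3 := Nat.pow_lt_pow_right (Fintype.one_lt_card (α := F)) hr.one_lt
      rw [pow_one, ← hcard] at h3
      exact lt_irrefl _ h3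
    have hex : polar Q (e : ι → F) (a • (x : ι → F)) = 0 := by
      rw [polar_smul_right', R.orth (hCef x hxC).1, mul_zero]
    set s := sie (e : ι → F) (a • (x : ι → F)) (R.sing he) hex with hs
    have hsS := (hmem s).1 (h ((H96.mem_omegaGL_iff Q _).2
      ⟨s, OrthMax.sie_mem_commutator hQ (by omega) _ _, rfl⟩)).1
    obtain ⟨c, hc, hcV⟩ := hsS
    have h1 := hcV e e.2
    rw [hs, sie_fix] at h1
    have hcF : c⁻¹ ∈ F₀ := by
      have := R.polar_mem f ⟨_, h1⟩
      rwa [polar_smul_right', polar_comm, R.one hef, mul_one] at this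
    have h3 : polar Q (f : ι → F) (c⁻¹ • (s : (ι → F) ≃ₗ[F] (ι → F)) y) ∈ F₀ := R.polar_mem f ⟨_, hcV y y.2⟩
    rw [hs, sie_app, polar_smul_left', R.one hxy, R.orth (hCef y hyC).1, mul_one, mul_zero, sub_zero, zero_smul,
      sub_zero, polar_smul_right', polar_add_right, polar_smul_right', R.orth (hCef y hyC).2,
      polar_comm (⇑Q) (f : ι → F) (e : ι → F), R.one hef, zero_add, mul_one] at h3
    refine ha ?_
    have := F₀.mul_mem (F₀.inv_mem hcF) h3
    rwa [inv_inv, ← mul_assoc, mul_inv_cancel₀ hc, one_mul] at this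
  by_cases hMS : M ≤ Cfsg.Geo.subfieldSubgroup F₀ P
  · exact Or.inl (le_antisymm (le_inf hMS hMG) hM)
  refine Or.inr (le_antisymm hMG ?_)
  set X := M.comap (H96.om Q) with hX'
  have hX : R.Over X := by
    refine ⟨fun s hs hsR => hM ⟨(hmem s).2 ⟨1, one_ne_zero, fun v hv => ?_⟩,
      (H96.mem_omegaGL_iff Q _).2 ⟨s, hs, rfl⟩⟩, fun s hs => ?_⟩
    · rw [inv_one, one_smul]; exact hsR v hv
    · obtain ⟨y, hy, hye⟩ := (H96.mem_omegaGL_iff Q _).1 (hMG hs)
      exact H96.om_injective Q hye ▸ hy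
  obtain ⟨g, hg, hgS⟩ := SetLike.not_le_iff_exists.1 hMS
  obtain ⟨x, hx, rfl⟩ := (H96.mem_omegaGL_iff Q g).1 (hMG hg)
  have hT : ¬ R.NoNew X := fun hT => hgS ((hmem x).2 (by
    by_cases h2 : (2 : F) = 0
    · exact Sub.stab_of_noNew_two hQ h2 (by omega) hX hT (fun W hW _ => small_of_minus hQ h2 hd hhalf W hW) hg
    · exact Sub.stab_of_noNew_odd hQ h2 hd hX hT (mem_of_sq_mem hrodd hcard) hhalf hg))
  have hle := Sub.sieGroup_le_of_new hQ (by omega) hX hmax hT
  intro g hg
  obtain ⟨y, hy, rfl⟩ := (H96.mem_omegaGL_iff Q g).1 hg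
  rw [← sieGroup_eq_commutator hQ (by omega)] at hy
  exact hle hy

end Cfsg.Agent.H97.OmegaEight
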